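import Cfsg.Agent.Leech.Co23

/-! The Higman-Sims group on 100 points. -/

set_option autoImplicit false
set_option maxRecDepth 1000000

namespace CF.Leech

open CF.Comp Dat
open scoped Pointwise

noncomputable def hN_0 : Net := (Net.cons (nat_lit 1) (nat_lit 0x4551510001405051051054444) (Net.cons (nat_lit 2) (nat_lit 0x1022010131313301200133100) (Net.cons (nat_lit 4) (nat_lit 0x80c05020f0a080705080406) (Net.cons (nat_lit 8) (nat_lit 0x4000fa00a000ad00010006) (Net.cons (nat_lit 16) (nat_lit 0x3c0e000008a400000001) (Net.cons (nat_lit 32) (nat_lit 0xd0000000012901830) (Net.cons (nat_lit 64) (nat_lit 0x5beb1ddba) (Net.cons (nat_lit 32) (nat_lit 0x2000000009269cc4f) (Net.cons (nat_lit 16) (nat_lit 0x9af7000053bf0000eb24) (Net.cons (nat_lit 8) (nat_lit 0xe80089003f00f600ca0054) (Net.cons (nat_lit 4) (nat_lit 0x1010a0f0f0e0e04010a010a) (Net.cons (nat_lit 2) (nat_lit 0x2312010232113131310131222) (Net.cons (nat_lit 1) (nat_lit 0x1501555440545055500555151) Net.nil)))))))))))))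
noncomputable def hN_1 : Net := (Net.cons (nat_lit 1) (nat_lit 0x1055445004550545444010440) (Net.cons (nat_lit 2) (nat_lit 0x1323220323220212000230100) (Net.cons (nat_lit 4) (nat_lit 0x20602000a00080e0d0d0001) (Net.cons (nat_lit 8) (nat_lit 0x7c0082005c00ad00bc0009) (Net.cons (nat_lit 16) (nat_lit 0x91be0000447c00000000) (Net.cons (nat_lit 32) (nat_lit 0xb00000000dca802c0) (Net.cons (nat_lit 64) (nat_lit 0x5dcafd3da) (Net.cons (nat_lit 32) (nat_lit 0xc00000000c0163b80) (Net.cons (nat_lit 16) (nat_lit 0xe3f400002e9300002428) (Net.cons (nat_lit 8) (nat_lit 0x7f0008002b0031000b00bd) (Net.cons (nat_lit 4) (nat_lit 0x7000d010d05020b060e0a03) (Net.cons (nat_lit 2) (nat_lit 0x12221223000221300131102) (Net.cons (nat_lit 1) (nat_lit 0x1100511505115114050005444) Net.nil)))))))))))))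
noncomputable def hN_2 : Net := (Net.cons (nat_lit 1) (nat_lit 0x4544004004154444410555540) (Net.cons (nat_lit 2) (nat_lit 0x112201123321011122130000) (Net.cons (nat_lit 4) (nat_lit 0xb07080205000d0507050002) (Net.cons (nat_lit 8) (nat_lit 0x6c006a001000ac00300000) (Net.cons (nat_lit 16) (nat_lit 0xa39300002e4f00000008) (Net.cons (nat_lit 32) (nat_lit 0x5000000006a0614a0) (Net.cons (nat_lit 64) (nat_lit 0x96e16f7be) (Net.cons (nat_lit 32) (nat_lit 0x2000000009cffbe84) (Net.cons (nat_lit 16) (nat_lit 0xa2e30000142900004f9e) (Net.cons (nat_lit 8) (nat_lit 0x760099002300db00f300ce) (Net.cons (nat_lit 4) (nat_lit 0x70e0f06050c06020a03010e) (Net.cons (nat_lit 2) (nat_lit 0x222301130103321001322002) (Net.cons (nat_lit 1) (nat_lit 0x5554154541000501041145554) Net.nil)))))))))))))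
noncomputable def hN_3 : Net := (Net.cons (nat_lit 1) (nat_lit 0x150505040550141051404) (Net.cons (nat_lit 2) (nat_lit 0x103112303311223301302110) (Net.cons (nat_lit 4) (nat_lit 0x5080b0d0b050d0d0e040a0a) (Net.cons (nat_lit 8) (nat_lit 0xe8004500900055001e000a) (Net.cons (nat_lit 16) (nat_lit 0x565d0000481000000006) (Net.cons (nat_lit 32) (nat_lit 0x400000000db021000) (Net.cons (nat_lit 64) (nat_lit 0xdfba6dcda) (Net.cons (nat_lit 32) (nat_lit 0xb000000005b8ca7b4) (Net.cons (nat_lit 16) (nat_lit 0xff850000d68200007e08) (Net.cons (nat_lit 8) (nat_lit 0x6200a6000900ef006400e4) (Net.cons (nat_lit 4) (nat_lit 0xf0c0e0e0c0f0f050d08070c) (Net.cons (nat_lit 2) (nat_lit 0x3220310200230133212300302) (Net.cons (nat_lit 1) (nat_lit 0x4001441040441404510514150) Net.nil)))))))))))))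
noncomputable def hN_4 : Net := (Net.cons (nat_lit 1) (nat_lit 0x5404111105400400000114550) (Net.cons (nat_lit 2) (nat_lit 0x1301231322013222001002000) (Net.cons (nat_lit 4) (nat_lit 0xe0407080a02040b0708010c) (Net.cons (nat_lit 8) (nat_lit 0x170028001700cf00e10002) (Net.cons (nat_lit 16) (nat_lit 0x20aa000009eb00000006) (Net.cons (nat_lit 32) (nat_lit 527936) (Net.cons (nat_lit 64) (nat_lit 0xf3e5d6fe8) (Net.cons (nat_lit 32) (nat_lit 0x200000000e711c2fe) (Net.cons (nat_lit 16) (nat_lit 0xf980000040f5000071f4) (Net.cons (nat_lit 8) (nat_lit 0x6f002b00bc00f1006e00b6) (Net.cons (nat_lit 4) (nat_lit 0xd0c0d0803090c0f0c010404) (Net.cons (nat_lit 2) (nat_lit 0x1130132011132100213302320) (Net.cons (nat_lit 1) (nat_lit 0x110545154105154541514504) Net.nil)))))))))))))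
noncomputable def hN_5 : Net := (Net.cons (nat_lit 1) (nat_lit 0x1450115405105454501151400) (Net.cons (nat_lit 2) (nat_lit 0x1000332232300203233313200) (Net.cons (nat_lit 4) (nat_lit 0x10a000904020c09060004) (Net.cons (nat_lit 8) (nat_lit 0xcc00df00580018000e0004) (Net.cons (nat_lit 16) (nat_lit 0x718400008a8400000005) (Net.cons (nat_lit 32) (nat_lit 0x40000000010023890) (Net.cons (nat_lit 64) (nat_lit 0x77db2bcf1) (Net.cons (nat_lit 32) (nat_lit 0x3000000004b1cb4b9) (Net.cons (nat_lit 16) (nat_lit 0x504a00007a34000045d1) (Net.cons (nat_lit 8) (nat_lit 0xbe00b300740032003a00c8) (Net.cons (nat_lit 4) (nat_lit 0x90d0c0c0c070b070f020c00) (Net.cons (nat_lit 2) (nat_lit 0x2002300302131301033320300) (Net.cons (nat_lit 1) (nat_lit 0x5104515414001111101544510) Net.nil)))))))))))))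
noncomputable def hN_6 : Net := (Net.cons (nat_lit 1) (nat_lit 0x10140154514000414011100) (Net.cons (nat_lit 2) (nat_lit 0x2123211111210123003222000) (Net.cons (nat_lit 4) (nat_lit 0xc0002090c040b050a0f080d) (Net.cons (nat_lit 8) (nat_lit 0x940058008300ab0053000d) (Net.cons (nat_lit 16) (nat_lit 0xb9230000a20200000001) (Net.cons (nat_lit 32) (nat_lit 0x20000000012080070) (Net.cons (nat_lit 64) (nat_lit 0x3325c9ff4) (Net.cons (nat_lit 32) (nat_lit 0xf0000000077afcbf0) (Net.cons (nat_lit 16) (nat_lit 0x9f590000a00300004d0c) (Net.cons (nat_lit 8) (nat_lit 0xad0019008a009e001e0005) (Net.cons (nat_lit 4) (nat_lit 0xc0c0709080e0904000b0d0d) (Net.cons (nat_lit 2) (nat_lit 0x3223032312232132013123210) (Net.cons (nat_lit 1) (nat_lit 0x400041441115145410541540) Net.nil)))))))))))))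
noncomputable def hN_7 : Net := (Net.cons (nat_lit 1) (nat_lit 0x104450455001101044104500) (Net.cons (nat_lit 2) (nat_lit 0x2001031002332201300031020) (Net.cons (nat_lit 4) (nat_lit 0x90801030d070f0302040c01) (Net.cons (nat_lit 8) (nat_lit 0x1500d4005600360064000d) (Net.cons (nat_lit 16) (nat_lit 0x1c60000032b100000005) (Net.cons (nat_lit 32) (nat_lit 0x800000000000f20f0) (Net.cons (nat_lit 64) (nat_lit 0x75dbf62f9) (Net.cons (nat_lit 32) (nat_lit 0xc00000000865491fc) (Net.cons (nat_lit 16) (nat_lit 0x9bb50000933d00002308) (Net.cons (nat_lit 8) (nat_lit 0x1400b5009c006b00bd000d) (Net.cons (nat_lit 4) (nat_lit 0x20a0f0603060a0d08080509) (Net.cons (nat_lit 2) (nat_lit 0x2333000300300310133123120) (Net.cons (nat_lit 1) (nat_lit 0x514151450551045405014000) Net.nil)))))))))))))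
noncomputable def hN_8 : Net := (Net.cons (nat_lit 1) (nat_lit 0x5404041555501145140054000) (Net.cons (nat_lit 2) (nat_lit 0x3230032030101123232230220) (Net.cons (nat_lit 4) (nat_lit 0x1030c0f0e000905020a00) (Net.cons (nat_lit 8) (nat_lit 0x1900dc00e1000400c40004) (Net.cons (nat_lit 16) (nat_lit 0x70e20000680c00000002) (Net.cons (nat_lit 32) (nat_lit 0xc00000000024b1d10) (Net.cons (nat_lit 64) (nat_lit 0x6e3ef9d3a) (Net.cons (nat_lit 32) (nat_lit 0x2000000005a533c74) (Net.cons (nat_lit 16) (nat_lit 0x30e7000072a600001a62) (Net.cons (nat_lit 8) (nat_lit 0x8f00d0005b003e00f9002c) (Net.cons (nat_lit 4) (nat_lit 0x40007060707000b03050600) (Net.cons (nat_lit 2) (nat_lit 0x1111012212221002132033020) (Net.cons (nat_lit 1) (nat_lit 0x4500145055105000445105400) Net.nil)))))))))))))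
noncomputable def hN_9 : Net := (Net.cons (nat_lit 1) (nat_lit 0x4014455451405410141400000) (Net.cons (nat_lit 2) (nat_lit 0x311111030202200221220000) (Net.cons (nat_lit 4) (nat_lit 0xa0900030708070900040400) (Net.cons (nat_lit 8) (nat_lit 0x8e0050000c003f00040000) (Net.cons (nat_lit 16) (nat_lit 0x2000013e100000000) (Net.cons (nat_lit 32) (nat_lit 0x2000000004dc15800) (Net.cons (nat_lit 64) (nat_lit 0x74dc95960) (Net.cons (nat_lit 32) (nat_lit 0xa000000007ee75980) (Net.cons (nat_lit 16) (nat_lit 0x63060000e3c900000500) (Net.cons (nat_lit 8) (nat_lit 0x9e0041002c001f00e40000) (Net.cons (nat_lit 4) (nat_lit 0xa0901020e080f0801040e00) (Net.cons (nat_lit 2) (nat_lit 0x311111230202200221222200) (Net.cons (nat_lit 1) (nat_lit 0x4014455451405410141400000) Net.nil)))))))))))))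
noncomputable def hN_10 : Net := (Net.cons (nat_lit 1) (nat_lit 0x4454405154414511511001000) (Net.cons (nat_lit 2) (nat_lit 0x3102333311300322210032000) (Net.cons (nat_lit 4) (nat_lit 0xc0107020a050300080c0000) (Net.cons (nat_lit 8) (nat_lit 0x1800400089003300420008) (Net.cons (nat_lit 16) (nat_lit 0xaddd0000538e00000008) (Net.cons (nat_lit 32) (nat_lit 2175112224) (Net.cons (nat_lit 64) (nat_lit 0xdb9fd9ca8) (Net.cons (nat_lit 32) (nat_lit 0x800000000d9a72768) (Net.cons (nat_lit 16) (nat_lit 0x75f50000e1ae00001808) (Net.cons (nat_lit 8) (nat_lit 0x1a005a00c1003b00d30000) (Net.cons (nat_lit 4) (nat_lit 0x5010702080d0302080c0a00) (Net.cons (nat_lit 2) (nat_lit 0x3103333311300322210032000) (Net.cons (nat_lit 1) (nat_lit 0x4454405154414511511001000) Net.nil)))))))))))))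
noncomputable def hN_11 : Net := (Net.cons (nat_lit 1) (nat_lit 0x4404015110005450400105000) (Net.cons (nat_lit 2) (nat_lit 0x1232200002032110220001000) (Net.cons (nat_lit 4) (nat_lit 0xa0f000b01060105010a0300) (Net.cons (nat_lit 8) (nat_lit 0x1a00e3002b00dd00900004) (Net.cons (nat_lit 16) (nat_lit 0xa1180000450a00000002) (Net.cons (nat_lit 32) (nat_lit 1806402288) (Net.cons (nat_lit 64) (nat_lit 0x5fbfbebf4) (Net.cons (nat_lit 32) (nat_lit 0xe000000007f2e9af6) (Net.cons (nat_lit 16) (nat_lit 0x21920000458a00008a02) (Net.cons (nat_lit 8) (nat_lit 0x9a00eb002b005f00100004) (Net.cons (nat_lit 4) (nat_lit 0xa0e03030806010f090b0b00) (Net.cons (nat_lit 2) (nat_lit 0x3032202202032132230001000) (Net.cons (nat_lit 1) (nat_lit 0x4404015110005450400105000) Net.nil)))))))))))))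
noncomputable def hN : List Net := [hN_0, hN_1, hN_2, hN_3, hN_4, hN_5, hN_6, hN_7, hN_8, hN_9, hN_10, hN_11]
noncomputable def hW : List (List Nat) := [[1, 4, 1, 1, 3], [2, 3, 3, 2, 2, 3, 1, 3], [6, 6, 8, 6, 8, 5, 8, 6, 7], [5, 7, 5, 8, 5], [11, 9, 11, 9], [9, 12, 12, 10, 10, 11], [14, 15, 15, 14], [14, 14, 16, 13, 13, 15, 15], [20, 18, 19, 17, 19], [18, 18, 18, 18, 21]]
noncomputable def hC : List Lvl := [⟨(nat_lit 0), [[(nat_lit 1)],
  [(nat_lit 3)]], (nat_lit 6)⟩,
  ⟨(nat_lit 1), [[(nat_lit 5)],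
  [(nat_lit 7)]], (nat_lit 6)⟩,
  ⟨(nat_lit 2), [[(nat_lit 9)],
  [(nat_lit 11)]], (nat_lit 6)⟩,
  ⟨(nat_lit 4), [[(nat_lit 13)],
  [(nat_lit 15)]], (nat_lit 2)⟩,
  ⟨(nat_lit 5), [[(nat_lit 17)],
  [(nat_lit 19)]], (nat_lit 2)⟩,
  ⟨(nat_lit 3), [[(nat_lit 21)],
  [(nat_lit 18), (nat_lit 18)]], (nat_lit 2)⟩,
  ⟨(nat_lit 8), [[(nat_lit 23)]], (nat_lit 1)⟩]

theorem hOK : prOK e2T 100 0 0 = true := by decide +kernel

theorem hExact : Exact (prDom e2T 100 0 0 hOK) hN (slp (coEl cY) hW (llen cY)) hC (St2 Cfsg.Spor.leechV Cfsg.Spor.leechU') :=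
  exact_of (k := 7) hOK cCo (by decide +kernel) (by decide +kernel) (by norm_num) (by norm_num)
    (by decide +kernel) cMem (by rw [card_HS]; decide +kernel)

end CF.Leech
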