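import Cfsg.Agent.Bt.Pc3

set_option autoImplicit false
set_option maxRecDepth 1000000

namespace CF.Leech.M

open CF.Comp CF.Bt

noncomputable def e2a : List Nat := [3, 1, 3, 1, 3, 1, 3, 1]
noncomputable def Ce2aT : Tr := (.sym [[1], [3]] (.cons [] 4 1344 (.op 4 0 (.focus 0 (.cons [] 0 1344 (.op 2 0 (.xor 0 1 (.focus 0 (.xor 1 4 (.focus 0 (.sym [[5], [7]] (.cons [] 4 96 (.op 4 0 (.focus 0 (.cons [] 0 96 (.focus 4 (.focus 3 (.xor 5 0 (.focus 0 (.xor 6 3 (.focus 0 (.sym [[9], [11], [13]] (.cons [] 2 8 (.op 4 0 (.focus 0 (.cons [] 0 8 (.focus 4 (.focus 3 (.focus 9 (.focus 8 (.xor 10 0 (.focus 0 (.xor 11 3 (.focus 0 (.base (nat_lit 7851505) (.focus 0 (.sym [[15], [17], [19]] (.cons [] 1 1 .triv (.cons [1] 1 0 (.op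 5 0 (.and 1 0 (.dead0 0))) .nil))))))))))))) .nil))) (.cons [5] 2 0 (.op 5 0 (.and 1 0 (.dead0 0))) .nil))))))))) .nil))) (.cons [3] 3 0 (.op 5 0 (.and 1 0 (.dead0 0))) .nil)))))))) .nil))) (.cons [1] 4 0 (.op 5 0 (.and 1 0 (.dead0 0))) .nil)))
noncomputable def Ce2aTK : List (List Nat) := [[2, 4], [4, 4, 1, 4, 4, 2, 2, 3], [2, 4, 4, 1, 4, 4, 1, 3, 3, 1, 1, 3, 1, 1, 4, 4, 4, 4], [2, 4, 2, 4, 2, 3, 1, 3, 2, 2, 4, 2, 2, 2, 2, 4, 1], [2, 3, 2, 4, 2, 2, 2, 3, 2, 4, 4, 2, 3, 3, 2, 3, 3, 1], [4, 1, 3, 2, 4, 2, 2, 3, 2, 3, 2, 4, 2, 2, 4, 1, 3, 3], [1, 4, 2, 2, 4, 2, 3, 2, 3, 3, 2, 2, 3, 2, 4, 2, 2, 3], [4, 1, 1, 4, 4, 1, 4, 1, 3, 1, 1, 3, 2, 4, 1, 1, 3, 1], [3, 3, 2, 4, 1, 4, 2, 4, 1, 1, 1, 4, 4, 1, 3, 3, 2, 3], [3,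 2, 4, 2, 3, 1, 1, 3, 1, 4, 1, 4, 1, 1, 3, 1, 4, 4]]
noncomputable def Ce2aTF : List (List Nat) := [[], [1]]
noncomputable def Ce2a : CD := ⟨[⟨3, [[1], [3]], 5⟩, ⟨9, [[3, 3, 1], [4, 4, 2]], 5⟩, ⟨2, [[1, 3, 1, 3, 2], [3, 2, 3, 3, 2]], 4⟩, ⟨12, [[1, 4, 2, 4, 4, 4, 1, 4], [2, 3, 3, 2, 4, 1, 1, 1, 4, 2]], 4⟩, ⟨19, [[3, 3, 2, 3, 1, 3, 1, 3, 1, 1, 1], [4, 1, 4, 2, 2, 2, 3, 3, 1, 1, 3], [2, 4, 4, 4, 1, 3, 2, 3, 1, 1, 4, 1, 1]], 3⟩, ⟨13, [[1, 1, 3, 1, 4, 1, 4, 1, 4, 1, 4, 4, 2, 2], [3, 1, 4, 4, 4, 2, 4, 2, 4, 4, 4, 4, 1, 3, 3], [2, 2, 2, 3, 3, 1, 3, 1, 1, 4, 1, 4, 2, 2, 2, 3]], 2⟩, ⟨17, [[1, 1, 3, 1, 4, 1, 4, 1, 4, 1, 4, 4, 2, 2], [4, 1, 4, 2, 2, 4, 4, 2, 2, 2, 3, 2, 3, 3, 1], [2, 2, 2, 3, 3, 1, 3, 1, 1, 4, 1, 4, 2,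 2, 2, 3], [1, 1, 1, 1, 4, 4, 4, 1, 4, 1, 3, 3, 1, 3, 3, 3, 1]], 1⟩], Ce2aTF, Ce2aTK, Ce2aT⟩
noncomputable def ce2a : List Lvl := [⟨0, [[2, 4], [4, 1, 1, 3, 3, 2, 3, 3]], 4⟩, ⟨1, [[2, 4, 4, 1, 1, 3, 3, 2, 3, 3], [2, 4, 4, 4, 2, 4, 4, 2, 2, 2, 4, 4]], 4⟩, ⟨2, [[4, 2, 3, 2, 2, 4, 2, 4, 2, 3, 3, 2, 3, 2, 2], [4, 1, 1, 3, 2, 2, 4, 1, 3, 2, 4, 2, 3, 2, 2], [2, 4, 1, 3, 1, 4, 4, 2, 2, 4, 1, 1, 4, 2, 2, 2]], 3⟩, ⟨3, [[1, 1, 1, 4, 4, 4, 1, 4, 1, 3, 3, 1, 3, 3, 3, 1, 1], [1, 1, 3, 2, 3, 2, 4, 4, 4, 4, 2, 4, 1, 1, 4, 1, 3, 2], [2, 2, 3, 2, 3, 3, 2, 3, 3, 2, 4, 2, 2, 3, 2, 2, 2, 3]], 1⟩]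
noncomputable def e2b : List Nat := [3, 2, 4, 1, 1, 3, 2, 4, 1, 1]
noncomputable def Ce2bT : Tr := (.sym [[1], [3], [5], [7]] (.cons [] 2 320 (.op 4 0 (.focus 0 (.cons [] 0 320 (.op 2 0 (.xor 0 1 (.focus 0 (.xor 1 4 (.focus 0 (.sym [[3], [9], [11]] (.cons [] 4 16 (.op 4 0 (.focus 0 (.cons [] 0 16 (.focus 4 (.focus 3 (.xor 5 0 (.focus 0 (.xor 6 3 (.focus 0 (.sym [[9], [13]] (.cons [] 4 1 (.op 4 0 (.focus 0 (.cons [] 0 1 (.base (nat_lit 73) (.focus 0 (.cons [] 0 1 .triv (.cons [1] 0 0 (.base (nat_lit 128) (.op 4 1 (.and 1 0 (.dead0 0)))) (.cons [2] 0 0 (.base (nat_lit 128) (.op 4 1 (.and 1 0 (.dead0 0)))) .nil))))) .nil))) (.cons [2, 4] 1 0 (.base (nat_lit 13587419) (.op 4 1 (.and 1 0 (.dead0 0)))) (.cons [5,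 3] 1 0 (.base (nat_lit 13587419) (.op 4 1 (.and 1 0 (.dead0 0)))) .nil)))))))))) .nil))) (.cons [9, 2] 1 0 (.op 4 0 (.focus 0 (.cons [4, 1] 0 0 (.focus 4 (.focus 3 (.xor 5 0 (.focus 0 (.xor 6 3 (.focus 0 (.sym [[3], [11], [15]] (.cons [] 3 0 (.base (nat_lit 13587419) (.op 4 1 (.and 1 0 (.dead0 0)))) .nil)))))))) .nil))) .nil)))))))) .nil))) .nil))
noncomputable def Ce2bTK : List (List Nat) := [[2, 2, 3, 1, 4], [3, 2, 3, 2, 3, 2, 3, 2], [1, 4, 2, 3, 1, 4, 1, 1, 1], [2, 2, 3, 3, 3, 1, 3, 1, 1, 4, 2, 2, 4, 4, 4, 2, 4], [4, 4, 2, 2, 4, 1, 3, 3, 1, 3, 1, 4, 2, 2, 2, 3, 3], [4, 2, 3, 3, 2, 3, 1, 1, 3, 3, 2, 3, 3], [3, 1, 3, 1, 4, 4, 4, 4, 1, 3, 1, 4, 4, 4, 4, 4], [2, 3, 1, 4, 1, 4, 2, 2, 3, 2, 2, 2, 4, 1, 4, 4, 2]]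
noncomputable def Ce2bTF : List (List Nat) := [[], [1]]
noncomputable def Ce2b : CD := ⟨[⟨11, [[1], [3]], 6⟩, ⟨10, [[1, 4], [2, 2, 3, 1]], 5⟩, ⟨15, [[3, 3, 3, 1, 1], [2, 3, 2, 4, 2, 4]], 4⟩, ⟨21, [[2, 4, 2, 3, 2, 3, 3, 1], [4, 2, 3, 3, 2, 2, 3, 3]], 4⟩, ⟨2, [[1, 4, 2, 3, 1, 1, 3, 2, 4, 4], [3, 2, 3, 3, 3, 3, 3, 1, 1, 3, 3]], 4⟩, ⟨14, [[1, 4, 1, 3, 2, 2, 3, 2, 3, 2, 4, 2, 2, 3, 1], [4, 2, 3, 1, 4, 2, 3, 1, 1, 3, 2, 4, 2, 3, 1], [2, 3, 2, 2, 2, 3, 2, 3, 2, 3, 2, 3, 1, 1, 4, 1]], 2⟩, ⟨6, [[4, 2, 4, 1, 4, 1, 1, 1, 3, 3, 3, 2, 4, 1, 3, 3]], 2⟩], Ce2bTF, Ce2bTK, Ce2bT⟩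
noncomputable def ce2b : List Lvl := [⟨0, [[3, 2, 4, 1, 1], [1, 4, 2, 3, 1, 4, 1, 1, 1], [3, 3, 2, 3, 1, 3, 2, 3, 1, 3, 1]], 3⟩, ⟨3, [[2, 2, 3, 3, 3, 2, 2, 3, 3, 2, 3, 2], [1, 4, 4, 2, 4, 1, 1, 1, 4, 2, 3, 3]], 4⟩, ⟨1, [[4, 4, 1, 4, 4, 2, 2, 4, 1, 4, 4, 1, 3], [3, 2, 2, 2, 4, 2, 3, 2, 3, 3, 1, 1, 1, 4]], 4⟩]
noncomputable def e3a : List Nat := [4, 1, 1, 1, 4, 4, 1, 1, 1, 1]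
noncomputable def Ce3aT : Tr := (.sym [[1], [3], [5], [7], [9], [11]] (.cons [] 2 60 (.op 4 0 (.focus 0 (.cons [] 0 60 (.op 4 0 (.focus 0 (.cons [] 0 60 (.op 2 0 (.xor 0 1 (.focus 0 (.xor 1 4 (.focus 0 (.xor 2 7 (.focus 0 (.sym [[3], [5], [13], [15]] (.cons [] 2 4 (.op 4 0 (.focus 0 (.cons [] 0 4 (.op 4 0 (.focus 0 (.cons [] 0 4 (.focus 7 (.focus 6 (.focus 5 (.xor 8 0 (.focus 0 (.xor 9 3 (.focus 0 (.xor 10 6 (.focus 0 (.base (nat_lit 16469621) (.focus 0 (.sym [[3], [5]] (.cons [] 1 1 .triv (.cons [1] 1 0 (.base (nat_lit 4) (.op 5 0 (.and 1 0 (.dead0 0)))) (.cons [5] 1 0 (.base (nat_lit 1) (.op 5 0 (.and 1 0 (.dead0 0)))) (.cons [5, 1] 1 0 (.op 5 0 (.and 1 0 (.dead0 0))) .nil)))))))))))))))) .nil))) .nil))) (.cons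 [1] 2 0 (.op 5 0 (.and 1 0 (.dead0 0))) (.cons [1, 4, 2] 0 0 (.op 5 0 (.and 1 0 (.dead0 0))) .nil))))))))))) .nil))) .nil))) (.cons [3] 2 0 (.op 5 0 (.and 1 0 (.dead0 0))) .nil)))
noncomputable def Ce3aTK : List (List Nat) := [[4, 1, 1, 1, 4, 4, 1, 1, 1, 1], [2, 3, 2, 2, 4, 4, 4, 4, 2, 3, 2, 2, 4, 4, 1, 3, 3, 3], [1, 1, 3, 1, 1, 4, 4, 1, 3, 2, 2, 3, 3, 3, 2, 2, 3], [3, 2, 4, 2, 4, 1, 4, 4, 4, 4, 1, 4, 4, 4, 4, 1, 4, 2], [3, 3, 3, 3, 3, 3, 1, 3, 3, 2, 2, 2, 4, 4, 4, 4, 4, 2], [4, 4, 1, 4, 1, 3, 2, 3, 2, 3, 2, 3, 2, 2, 3, 2, 3, 3], [2, 2, 4, 2, 3, 2, 3, 1, 1, 1, 1, 3, 3, 3, 3, 3, 1, 1], [4, 1, 1, 1, 1, 1, 3, 3, 1, 4, 1, 4, 2, 4, 2, 4, 2, 2]]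
noncomputable def Ce3aTF : List (List Nat) := [[], [1]]
noncomputable def Ce3a : CD := ⟨[⟨7, [[1], [3]], 4⟩, ⟨8, [[4, 4, 2], [1, 1, 3, 2]], 4⟩, ⟨13, [[1, 1, 1, 3, 2, 2], [2, 4, 2, 2, 3, 2]], 4⟩, ⟨12, [[2, 3, 3, 3, 3, 3], [1, 1, 1, 3, 1, 3, 2, 2]], 4⟩, ⟨3, [[2, 2, 4, 4, 2, 4, 4, 4, 2, 4, 1, 1], [2, 2, 3, 2, 4, 1, 4, 4, 1, 4, 1, 1, 1]], 3⟩, ⟨18, [[1, 4, 2, 3, 2, 3, 3, 1, 4, 1, 3, 3, 1], [4, 1, 4, 4, 2, 4, 1, 1, 4, 1, 1, 4, 1], [1, 1, 1, 3, 1, 1, 4, 2, 3, 1, 3, 2, 3, 2]], 1⟩, ⟨20, [[1, 4, 2, 4, 2, 3, 2, 2, 3, 2, 2, 3, 1, 4, 1, 4], [2, 4, 2, 2, 2, 2, 3, 2, 3, 2, 3, 1, 4, 4, 4, 1, 1], [4, 4, 4, 4, 1, 1, 1, 3, 1, 1, 1, 4, 4, 4, 1, 3, 1], [4, 2, 2, 3, 3, 3, 2, 3, 3, 3, 3, 1, 1, 1, 1, 4, 1]], 1⟩], Ce3aTF, Ce3aTK, Ce3aT⟩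
noncomputable def ce3a : List Lvl := [⟨0, [[2, 4, 2, 3, 1, 3, 3, 1, 1, 1, 4, 1], [2, 4, 4, 4, 2, 3, 1, 1, 3, 1, 3, 2]], 5⟩, ⟨3, [[4, 4, 2, 2, 2, 3, 2, 3, 1, 4, 4, 2, 3, 3, 1], [3, 3, 3, 2, 3, 2, 4, 1, 3, 2, 4, 4, 1, 4, 1]], 4⟩, ⟨1, [[2, 4, 1, 3, 2, 2, 3, 1, 4, 4, 2, 3, 2, 4, 1, 1, 1], [4, 4, 4, 4, 4, 1, 1, 1, 4, 4, 1, 4, 4, 2, 2, 3, 3]], 1⟩]
noncomputable def e3b : List Nat := [4, 1, 3, 1, 4, 1, 3, 1]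
noncomputable def Ce3bT : Tr := (.sym [[1], [3], [5]] (.cons [] 4 21 (.op 4 0 (.focus 0 (.cons [] 0 21 (.op 4 0 (.focus 0 (.cons [] 0 21 (.op 2 0 (.xor 0 1 (.focus 0 (.xor 1 4 (.focus 0 (.xor 2 7 (.focus 0 (.sym [[3], [5]] (.cons [] 3 3 (.op 4 0 (.focus 0 (.cons [] 0 3 (.op 4 0 (.focus 0 (.cons [] 0 3 .triv .nil))) .nil))) (.cons [4] 2 0 (.op 4 0 (.focus 0 (.cons [2, 4, 2] 0 0 (.op 4 0 (.focus 0 (.cons [4] 0 0 (.focus 7 (.focus 6 (.focus 5 (.xor 8 0 (.focus 0 (.xor 9 3 (.focus 0 (.xor 10 6 (.focus 0 (.base (nat_lit 1048624) (.focus 0 (.sym [[7]] (.cons [] 2 0 (.base (nat_lit 128) (.op 4 1 (.and 1 0 (.dead0 0)))) .nil))))))))))))) .nil))) .nil))) (.cons [3] 3 0 (.op 4 0 (.focus 0 (.cons [4] 0 0 (.op 4 0 (.focus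 0 (.cons [4, 6] 0 0 (.focus 7 (.focus 6 (.focus 5 (.xor 8 0 (.focus 0 (.xor 9 3 (.focus 0 (.xor 10 6 (.focus 0 (.base (nat_lit 1048624) (.focus 0 (.sym [[9]] (.cons [] 2 0 (.base (nat_lit 2048) (.op 4 1 (.and 1 0 (.dead0 0)))) .nil))))))))))))) .nil))) .nil))) .nil))))))))))) .nil))) .nil))) .nil))
noncomputable def Ce3bTK : List (List Nat) := [[4, 1, 3, 1], [2, 2, 3, 1, 1, 4, 4, 1, 1, 4, 4, 4, 2, 4, 1, 3, 3], [1, 3, 2, 3, 1, 3, 3, 3, 1, 4, 1, 4, 1, 4, 1, 1, 3], [3, 2, 3, 1, 1, 1, 4, 1, 3, 2, 3, 3, 1, 3, 2, 3, 1], [1, 3, 2, 4, 2, 3, 3, 2, 3, 1, 1, 3, 2, 3, 1, 4, 4, 1, 1]]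
noncomputable def Ce3bTF : List (List Nat) := [[], [1]]
noncomputable def Ce3b : CD := ⟨[⟨22, [[1], [3]], 5⟩, ⟨13, [[2, 3, 2, 3], [1, 3, 3, 3]], 6⟩, ⟨6, [[2, 3, 2, 3], [3, 1, 3, 3, 3, 1, 4]], 4⟩, ⟨2, [[3, 2, 2, 3, 2, 3, 1, 4], [1, 1, 4, 2, 4, 2, 2, 4]], 4⟩, ⟨16, [[2, 4, 2, 4, 2, 2, 3, 3, 1, 4, 4, 4], [3, 2, 4, 2, 2, 2, 4, 2, 3, 1, 1, 3, 1]], 4⟩, ⟨18, [[4, 4, 1, 3, 1, 4, 4, 4, 4, 1, 3, 1, 4, 4], [4, 1, 3, 1, 3, 1, 4, 1, 1, 4, 4, 2, 3, 1, 3], [3, 1, 3, 1, 4, 4, 4, 2, 2, 4, 2, 2, 4, 2, 3]], 2⟩, ⟨5, [[4, 4, 2, 3, 1, 3, 3, 3, 2, 2, 3, 3, 2, 2, 4, 1, 1]], 2⟩], Ce3bTF, Ce3bTK, Ce3bT⟩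
noncomputable def ce3b : List Lvl := [⟨0, [[2, 4, 2, 3], [3, 2, 4, 2, 4, 2, 4, 2, 2, 4, 1, 1, 4]], 4⟩, ⟨1, [[2, 3, 1, 1, 1, 4, 1, 3, 3, 2, 3, 2, 2, 4], [3, 1, 1, 3, 3, 2, 4, 4, 2, 4, 2, 2, 3, 2, 3]], 3⟩, ⟨2, [[3, 2, 2, 2, 3, 1, 1, 4, 4, 2, 3, 3, 3, 1, 1, 1, 1]], 2⟩]
noncomputable def e5 : List Nat := [3, 3, 1]
noncomputable def Ce5T : Tr := (.sym [[1], [3], [5]] (.cons [] 4 3 (.op 4 0 (.focus 0 (.cons [] 0 3 (.op 4 0 (.focus 0 (.cons [] 0 3 (.op 4 0 (.focus 0 (.cons [] 0 3 (.op 4 0 (.focus 0 (.cons [] 0 3 (.op 2 0 (.xor 0 1 (.focus 0 (.xor 1 4 (.focus 0 (.xor 2 7 (.focus 0 (.xor 3 10 (.focus 0 (.xor 4 13 (.focus 0 (.base (nat_lit 7208583) (.focus 0 (.sym [[3]] (.cons [] 2 1 (.op 4 0 (.focus 0 (.cons [] 0 1 .triv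 .nil))) (.cons [4] 2 0 (.base (nat_lit 32898) (.op 4 1 (.and 1 0 (.dead0 0)))) (.cons [3] 2 0 (.base (nat_lit 32898) (.op 4 1 (.and 1 0 (.dead0 0)))) (.cons [8, 5] 0 0 (.op 5 0 (.and 1 0 (.dead0 0))) (.cons [8, 1] 2 0 (.base (nat_lit 32898) (.op 4 1 (.and 1 0 (.dead0 0)))) (.cons [5, 4] 2 0 (.base (nat_lit 32898) (.op 4 1 (.and 1 0 (.dead0 0)))) .nil)))))))))))))))))))) .nil))) .nil))) .nil))) .nil))) (.cons [1] 2 0 (.op 5 0 (.and 1 0 (.dead0 0))) .nil)))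
noncomputable def Ce5TK : List (List Nat) := [[3, 3, 1], [1, 1, 4, 1, 1, 1, 1, 1, 1, 4, 2, 4, 1, 3, 3, 2, 3, 3], [3, 3, 3, 2, 2, 3, 1, 1, 1, 1, 1, 4, 1, 1, 4, 1, 3, 3, 2]]
noncomputable def Ce5TF : List (List Nat) := [[], [1]]
noncomputable def Ce5 : CD := ⟨[⟨5, [[1], [3]], 5⟩, ⟨4, [[1, 3], [2, 4]], 5⟩, ⟨8, [[2, 4], [1, 4, 4, 2, 2]], 5⟩, ⟨23, [[1, 4, 4, 2, 2], [1, 3, 3, 3, 3, 1, 1]], 4⟩, ⟨20, [[4, 2, 4, 2, 3, 1, 1, 3, 3, 2, 2, 3, 2], [4, 1, 3, 1, 3, 3, 1, 3, 2, 3, 3, 1, 3]], 4⟩, ⟨0, [[1, 1, 3, 3, 3, 1, 1, 1, 1, 3, 2, 2, 2, 3], [1, 4, 4, 1, 1, 1, 1, 4, 4, 1, 3, 3, 1, 4], [4, 1, 1, 3, 2, 4, 1, 1, 1, 4, 1, 4, 1, 4]], 2⟩, ⟨1, [[2, 3, 3, 1, 4, 1, 4, 1, 4, 1, 3, 1, 4, 2, 3, 3]], 2⟩], Ce5TF, Ce5TK, Ce5T⟩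
noncomputable def ce5 : List Lvl := [⟨0, [[3, 1, 1, 3, 2, 2, 2, 2, 2, 2, 4, 4, 1, 4, 2, 4], [3, 2, 3, 3, 1, 4, 4, 2, 3, 1, 4, 4, 4, 1, 3, 1, 1]], 4⟩, ⟨2, [[4, 4, 1, 4, 2, 3, 2, 4, 4, 4, 2, 4, 4, 4, 4, 4, 2, 3, 2]], 2⟩]
noncomputable def e7 : List Nat := [4, 4, 2, 3, 1]
noncomputable def Ce7T : Tr := (.sym [[1], [3], [5]] (.cons [] 6 2 (.op 4 0 (.focus 0 (.cons [] 0 2 (.op 4 0 (.focus 0 (.cons [] 0 2 (.op 4 0 (.focus 0 (.cons [] 0 2 (.op 4 0 (.focus 0 (.cons [] 0 2 (.op 4 0 (.focus 0 (.cons [] 0 2 (.op 2 0 (.xor 0 1 (.focus 0 (.xor 1 4 (.focus 0 (.xor 2 7 (.focus 0 (.xor 3 10 (.focus 0 (.xor 4 13 (.focus 0 (.xor 5 16 (.focus 0 (.op 4 7 (.xor 7 0 (.focus 0 (.op 5 0 (.xor 9 0 (.focus 0 (.sym [[3]] (.cons [] 1 1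 .triv (.cons [7] 1 0 (.base (nat_lit 1) (.op 4 1 (.op 4 0 (.and 2 0 (.dead0 0))))) (.cons [3] 1 0 (.base (nat_lit 1) (.op 4 1 (.and 1 0 (.dead0 0)))) (.cons [5] 1 0 (.base (nat_lit 1) (.op 4 1 (.op 4 0 (.and 2 0 (.dead0 0))))) (.cons [1, 5] 1 0 (.base (nat_lit 1) (.op 4 1 (.op 4 0 (.and 2 0 (.dead0 0))))) (.cons [3, 7] 1 0 (.base (nat_lit 1) (.op 7 1 (.and 1 0 (.dead0 0)))) (.cons [3, 1, 5] 1 0 (.base (nat_lit 1) (.and 0 3 (.dead0 0))) .nil))))))))))))))))))))))))))) .nil))) .nil))) .nil))) .nil))) .nil))) (.cons [2, 2] 1 0 (.op 5 0 (.and 1 0 (.dead0 0))) .nil)))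
noncomputable def Ce7TK : List (List Nat) := [[2, 4, 1, 3, 3], [3, 3, 1, 4, 4, 4, 1, 1, 4, 4, 2, 2, 2, 2, 3, 2, 2], [3, 2, 2, 4, 1, 4, 2, 4, 4, 1, 1, 1, 3, 1, 4, 4, 4, 1]]
noncomputable def Ce7TF : List (List Nat) := [[], [1]]
noncomputable def Ce7 : CD := ⟨[⟨6, [[1], [3]], 5⟩, ⟨23, [[1, 3], [3, 3, 1]], 5⟩, ⟨11, [[1, 1, 3, 2, 3, 3, 1], [1, 4, 2, 3, 3, 3, 1]], 5⟩, ⟨20, [[3, 1, 3, 1, 4, 4, 4, 4, 2], [3, 3, 1, 1, 4, 2, 4, 2, 3]], 4⟩, ⟨21, [[2, 3, 1, 1, 4, 4, 1, 4, 2, 4, 2, 4], [3, 1, 1, 1, 4, 4, 2, 2, 2, 3, 1, 4, 1]], 4⟩, ⟨16, [[2, 3, 1, 3, 1, 4, 2, 2, 2, 3, 3, 2, 2, 2], [2, 2, 3, 2, 2, 4, 4, 4, 2, 3, 3, 3, 3, 2, 3, 2], [2, 2, 4, 1, 4, 1, 1, 1, 1, 3, 1, 4, 1, 4, 1, 3]], 1⟩, ⟨1, [[2, 3, 2, 2, 2, 3, 3, 2, 2, 2, 3,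 1, 4, 4, 2, 3], [3, 2, 2, 2, 2, 3, 2, 3, 2, 3, 2, 3, 1, 1, 1, 4], [4, 1, 1, 1, 4, 1, 1, 1, 3, 2, 3, 2, 2, 4, 2, 4], [2, 4, 2, 2, 4, 4, 4, 2, 3, 2, 3, 3, 1, 1, 1, 1, 1]], 1⟩], Ce7TF, Ce7TK, Ce7T⟩
noncomputable def ce7 : List Lvl := [⟨0, [[2, 2, 2, 3, 3, 1, 4, 4, 4, 1, 4, 1, 4, 1], [4, 2, 3, 3, 3, 3, 3, 1, 3, 2, 2, 3, 2, 4, 1, 4]], 4⟩, ⟨2, [[1, 3, 3, 2, 4, 2, 3, 2, 3, 2, 3, 2, 3, 3, 1, 4, 4, 2]], 1⟩]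
noncomputable def e11 : List Nat := [4, 2, 3, 1]
noncomputable def Ce11T : Tr := (.sym [[1]] (.cons [] 10 1 (.op 4 0 (.focus 0 (.cons [] 0 1 (.op 4 0 (.focus 0 (.cons [] 0 1 (.op 4 0 (.focus 0 (.cons [] 0 1 (.op 4 0 (.focus 0 (.cons [] 0 1 (.op 4 0 (.focus 0 (.cons [] 0 1 (.op 4 0 (.focus 0 (.cons [] 0 1 .triv .nil))) .nil))) .nil))) .nil))) .nil))) .nil))) (.cons [3] 10 0 (.op 4 0 (.focus 0 (.cons [2] 0 0 (.op 4 0 (.focus 0 (.cons [4, 1, 3] 0 0 (.op 4 0 (.focus 0 (.cons [3, 1] 0 0 (.op 4 0 (.focus 0 (.cons [1] 0 0 (.base (nat_lit 6219630) (.op 4 1 (.op 4 0 (.and 2 0 (.dead0 0))))) .nil))) .nil))) .nil))) .nil))) (.cons [2, 3] 0 0 (.op 5 0 (.and 1 0 (.dead0 0))) (.cons [1, 1, 1, 1] 0 0 (.op 5 0 (.and 1 0 (.dead0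 0))) .nil)))))
noncomputable def Ce11TK : List (List Nat) := [[2, 4, 1, 3]]
noncomputable def Ce11TF : List (List Nat) := [[], [1]]
noncomputable def Ce11 : CD := ⟨[⟨21, [[1], [3]], 5⟩, ⟨12, [[3, 1, 3], [4, 1, 3, 3]], 5⟩, ⟨11, [[2, 2, 3, 2, 3, 1], [3, 1, 1, 1, 3, 2, 3]], 4⟩, ⟨16, [[2, 2, 3, 2, 3, 1], [1, 1, 3, 1, 3, 2, 2, 3]], 4⟩, ⟨4, [[3, 2, 3, 1, 1, 3, 3, 2, 3, 2, 3], [2, 2, 2, 2, 4, 1, 3, 2, 3, 3, 3, 1], [1, 1, 1, 1, 4, 1, 1, 4, 4, 1, 3, 3]], 2⟩, ⟨8, [[2, 3, 3, 3, 2, 3, 2, 4, 2, 4, 2, 3, 1, 4], [3, 2, 3, 2, 3, 1, 4, 4, 4, 1, 4, 2, 2, 2, 2], [1, 4, 4, 2, 3, 2, 4, 2, 3, 2, 2, 3, 3, 3, 3, 3]], 3⟩, ⟨3, [[1, 4, 4, 2, 3, 2, 4, 2, 3, 2, 2, 3, 3, 3, 3, 3]], 2⟩], Ce11TF, Ce11TK, Ce11T⟩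
noncomputable def e23 : List Nat := [1]
noncomputable def Ce23T : Tr := (.sym [[1]] (.cons [] 22 1 (.op 4 0 (.focus 0 (.cons [] 0 1 (.op 4 0 (.focus 0 (.cons [] 0 1 (.op 4 0 (.focus 0 (.cons [] 0 1 (.op 4 0 (.focus 0 (.cons [] 0 1 (.op 4 0 (.focus 0 (.cons [] 0 1 (.op 4 0 (.focus 0 (.cons [] 0 1 .triv .nil))) .nil))) .nil))) .nil))) .nil))) .nil))) (.cons [6, 3, 2] 0 0 (.op 5 0 (.and 1 0 (.dead0 0))) .nil)))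
noncomputable def Ce23TK : List (List Nat) := [[1]]
noncomputable def Ce23TF : List (List Nat) := [[], [1]]
noncomputable def Ce23 : CD := ⟨[⟨4, [[1], [3]], 5⟩, ⟨5, [[2, 4], [4, 4, 2]], 5⟩, ⟨6, [[2, 4], [1, 4, 4, 2, 2]], 4⟩, ⟨7, [[4, 1, 4, 4, 2, 2, 3], [4, 2, 4, 1, 3, 3, 3, 3, 1]], 5⟩, ⟨8, [[3, 2, 4, 2, 4, 2, 4, 2, 4, 4], [3, 1, 3, 1, 1, 1, 3, 3, 2, 3, 1], [2, 3, 2, 4, 2, 4, 2, 4, 2, 4, 4, 1]], 3⟩, ⟨9, [[3, 2, 4, 2, 4, 2, 4, 2, 4, 4], [2, 4, 2, 2, 4, 2, 4, 2, 4, 2, 4, 1, 3, 1], [3, 3, 2, 4, 4, 4, 1, 1, 1, 1, 3, 2, 3, 3, 2]], 2⟩, ⟨10, [[1, 4, 1, 1, 4, 1, 1, 1, 1, 3, 2, 4, 4, 1, 1, 1, 1]], 2⟩], Ce23TF, Ce23TK, Ce23T⟩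
noncomputable def S2 : PD := ⟨[[3, 2, 4, 2, 3, 1, 3, 1, 3, 3, 2, 4, 2, 4, 1, 1, 4, 2, 3], [4, 2, 2, 3, 1, 3, 2, 2, 3, 2, 2, 4, 1, 1, 1, 3, 1], [2, 3, 1, 4, 2, 3, 3, 3, 2, 2, 2, 3, 3, 1, 4, 2], [4, 2, 2, 3, 1, 3, 1, 1, 4, 4, 2, 2, 4, 2, 4, 1, 3], [2, 3, 3, 2, 3, 1, 4, 4, 4, 4, 4, 4, 4, 2, 3, 3, 1], [1, 4, 2, 4, 1, 3, 2, 4, 1, 3, 1, 1, 4, 2, 4, 1, 3], [1, 4, 2, 2, 4, 2, 3, 2, 3, 3, 2, 2, 3, 2, 4, 2, 2, 3], [2, 4, 4, 1, 1, 3, 1, 4, 4, 4, 2, 3, 1, 3, 2, 3], [1, 4, 4, 2, 3, 3, 2, 4, 4, 4, 1, 3, 2, 2, 3, 1, 4, 4], [3, 1, 3, 1, 3, 1, 3, 1]], [([], [[9, 5, 1], [17, 13, 9, 7, 5, 1], [17, 13, 11, 9, 5], [15, 13, 9, 3, 1], [17, 13, 11], [13, 9], [17, 13], [17, 15], [17]]), ([], [[1], [11, 7], [5], [11, 3], [15, 11, 9,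 7, 3], [11], [13, 7, 3], [15]]), ([], [[11, 9], [3], [11, 5, 1], [13, 11, 7, 1], [9], [9, 1], [13]]), ([], [[11, 9, 5, 1], [3], [5], [7], [9], [11]]), ([], [[7, 5, 3, 1], [7, 5], [5], [5, 3], [9]]), ([], [[1], [3], [5], [7]]), ([], [[1], [3], [5]]), ([], [[1], [3]]), ([], [[1]]), ([], [])], [⟨1, [[1, 4, 2, 2, 2, 3, 1, 1, 4, 2], [4, 2, 3, 3, 3, 3, 1, 1, 4, 2, 4, 4, 2], [3, 2, 4, 1, 1, 4, 4, 1, 4, 1, 1, 3, 3], [4, 4, 4, 2, 4, 2, 4, 2, 2, 3, 2, 3, 3]], 2⟩, ⟨20, [[4, 1, 1, 3, 2, 2, 4, 1, 3, 2, 4, 2, 3, 2, 2], [3, 2, 2, 4, 1, 1, 3, 1, 4, 1, 4, 1, 1, 4, 2], [1, 3, 3, 2, 2, 3, 1, 1, 3, 2, 2, 2, 4, 1, 3, 3]], 2⟩, ⟨9, [[1, 3, 3, 2, 4, 2, 4, 2, 3, 3, 1, 3, 1, 4, 2, 3, 2], [2, 3, 1, 4, 4, 1, 4, 2, 2, 3, 1, 4, 2, 4, 1,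 4, 1, 3]], 2⟩], [[17, 15, 13, 9, 3], [13, 11, 9, 7, 3, 1], [19, 11], [17, 13, 11, 7, 5, 3], [9, 7, 5, 3, 1], [17, 15, 11, 7], [19, 7, 5, 3, 1], [15, 13, 11, 5, 3], [15, 13, 11, 5, 3, 1]]⟩
noncomputable def F2B : BT Ent := (.node 536240 (.node 284270 (.node 145501 (.node 85772 (.node 20379 (.node 10262 (.node 7557 (.leaf ⟨7080, [1, 3, 3, 3, 2, 4, 4, 2, 3, 3], 1⟩) (.node 8509 (.leaf ⟨7557, [2, 3, 1, 3, 3, 1, 1, 1, 3, 1, 1], 1⟩) (.leaf ⟨8509, [3, 2, 2, 2, 2, 4, 2, 3, 3, 1], 0⟩))) (.node 16215 (.leaf ⟨10262, [4, 4, 1, 1, 1, 4, 2, 4, 4, 1], 0⟩) (.node 20109 (.leaf ⟨16215, [4, 1, 3, 3, 2, 2, 4, 2, 2, 3], 0⟩) (.leaf ⟨20109, [1, 4, 4, 1, 3, 2, 2, 3, 3, 3, 3, 1, 1, 4, 1, 4, 2], 1⟩)))) (.node 57880 (.node 37327 (.leaf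 ⟨20379, [4, 1, 4, 4, 2, 4, 2, 2, 4, 2], 1⟩) (.node 50913 (.leaf ⟨37327, [3, 1, 4, 1, 4, 1, 3, 3, 3, 3], 1⟩) (.leaf ⟨50913, [2, 2, 2, 2, 3, 3, 1, 4, 4, 4, 4, 2, 3, 1, 3, 2, 4, 4], 1⟩))) (.node 77423 (.leaf ⟨57880, [1, 3, 1, 3, 3, 2, 4, 1, 1], 1⟩) (.node 80793 (.leaf ⟨77423, [4, 4, 4, 2, 4, 2, 2, 2, 3, 3], 1⟩) (.leaf ⟨80793, [2, 4, 2, 3, 1, 4, 1, 4, 1], 1⟩))))) (.node 105887 (.node 104016 (.node 92998 (.leaf ⟨85772, [4, 4, 4, 4, 4, 4, 2, 2, 4, 1, 4, 1, 4, 4, 1, 3, 3, 1], 0⟩) (.node 96875 (.leaf ⟨92998, [3, 3, 1, 1, 1, 3, 3, 2, 4, 4, 1, 4, 4, 4, 2], 0⟩) (.leaf ⟨96875, [2, 2, 3, 3, 3, 2, 2, 3, 2, 2], 0⟩))) (.node 104043 (.leaf ⟨104016, [2, 4, 4, 1, 4, 4, 2, 3, 3, 3, 2, 3, 1, 3, 1, 1, 4], 0⟩) (.node 105478 (.leaf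 ⟨104043, [3, 1, 1, 3, 1, 3, 2, 4], 0⟩) (.leaf ⟨105478, [1, 3, 1, 3, 3, 3, 2, 4], 1⟩)))) (.node 129601 (.node 118161 (.leaf ⟨105887, [4, 2, 4, 2, 3, 2, 3, 3, 3, 1, 1, 4, 4, 1, 4, 4, 4], 1⟩) (.node 118949 (.leaf ⟨118161, [2, 4, 2, 3, 3, 3, 1, 3, 1, 4], 1⟩) (.leaf ⟨118949, [1, 3, 2, 4, 1, 1, 1, 3, 1], 1⟩))) (.node 131958 (.leaf ⟨129601, [3, 2, 2, 4, 2, 3, 3, 1, 4, 1], 1⟩) (.node 133278 (.leaf ⟨131958, [2, 4, 1, 3, 1, 3, 3, 1, 3, 1], 0⟩) (.leaf ⟨133278, [4, 4, 1, 4, 1, 4, 4, 2, 2, 3, 1, 4, 1, 4, 4, 1, 1, 1], 1⟩)))))) (.node 201369 (.node 188790 (.node 174777 (.node 158552 (.leaf ⟨145501, [3, 2, 4, 1, 3, 3, 1, 1, 3, 1], 0⟩) (.node 174000 (.leaf ⟨158552, [4, 4, 1, 1, 3, 3, 2, 3, 3, 1, 1], 1⟩) (.leaf ⟨174000, [1, 3,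 2, 4, 1, 3, 3, 1, 3, 3], 0⟩))) (.node 187471 (.leaf ⟨174777, [3, 1, 1, 3, 2, 4, 1, 4, 2], 0⟩) (.node 188283 (.leaf ⟨187471, [2, 4, 2, 4, 1, 3, 1, 3], 0⟩) (.leaf ⟨188283, [4, 2, 4, 4, 2, 3, 1, 4, 1, 4], 1⟩)))) (.node 197366 (.node 192605 (.leaf ⟨188790, [1, 3, 2, 4, 2, 4, 1, 4, 4, 1, 3, 3, 3, 1, 1, 3, 1], 1⟩) (.node 193332 (.leaf ⟨192605, [2, 3, 3, 1, 4, 2, 2, 3, 3, 3, 2, 3, 3, 3, 1, 3, 1], 0⟩) (.leaf ⟨193332, [2, 2, 2, 3, 3, 2, 4, 2, 2, 2], 1⟩))) (.node 197403 (.leaf ⟨197366, [1, 4, 1, 4, 2, 2, 2, 3, 3, 2, 3, 3, 2, 2, 3], 1⟩) (.node 200341 (.leaf ⟨197403, [1, 4, 4, 2, 4, 4, 2, 2, 4, 2], 1⟩) (.leaf ⟨200341, [4, 2, 4, 2, 2, 2, 3, 2], 0⟩))))) (.node 259867 (.node 212451 (.node 201972 (.leaf ⟨201369, [4, 1, 3, 3,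 1, 4, 2, 2, 3, 1, 1], 0⟩) (.node 210347 (.leaf ⟨201972, [1, 3, 2, 4, 1, 1, 3, 3, 1, 1, 1, 3, 3, 3, 1, 4], 1⟩) (.leaf ⟨210347, [1, 3, 1, 3, 2, 4, 1, 1, 4, 1], 0⟩))) (.node 230818 (.leaf ⟨212451, [4, 2, 4, 2, 4, 2, 2, 2, 3, 2], 1⟩) (.node 247846 (.leaf ⟨230818, [4, 2, 2, 4, 1, 1, 3, 1, 1, 1], 0⟩) (.leaf ⟨247846, [3, 2, 3, 1, 4, 1, 3, 3, 3], 0⟩)))) (.node 277511 (.node 269705 (.leaf ⟨259867, [4, 2, 3, 2, 4, 4, 4, 4, 4], 1⟩) (.node 270935 (.leaf ⟨269705, [4, 1, 1, 3, 1, 1, 1, 3, 1, 1], 0⟩) (.leaf ⟨270935, [3, 3, 2, 3, 3, 1, 4, 1, 4], 1⟩))) (.node 281010 (.leaf ⟨277511, [2, 3, 1, 4, 4, 2, 2, 2, 2, 3], 1⟩) (.node 281972 (.leaf ⟨281010, [1, 3, 3, 3, 2, 2, 4, 1, 3, 3, 3, 1, 3, 3, 2, 2, 2], 0⟩) (.leaf ⟨281972, [4, 4,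 1, 4, 1, 1, 3, 1, 3], 1⟩))))))) (.node 449396 (.node 401565 (.node 358117 (.node 339884 (.node 317495 (.leaf ⟨284270, [3, 1, 3, 3, 3, 1, 4, 4, 2, 3, 3, 1, 4, 2, 4, 1], 1⟩) (.node 337951 (.leaf ⟨317495, [1, 1, 4, 1, 4, 4, 1, 4, 1], 0⟩) (.leaf ⟨337951, [1, 4, 2, 3, 3, 2, 4, 1, 3, 1, 1], 0⟩))) (.node 346772 (.leaf ⟨339884, [1, 1, 3, 3, 2, 3, 1, 3, 2], 0⟩) (.node 356925 (.leaf ⟨346772, [3, 1, 3, 3, 3, 1, 1, 3, 3, 2], 1⟩) (.leaf ⟨356925, [3, 2, 3, 3, 2, 2, 3, 3, 1, 3, 1, 1, 1], 0⟩)))) (.node 365341 (.node 358603 (.leaf ⟨358117, [4, 2, 2, 4, 2, 2, 2, 4, 2], 1⟩) (.node 362681 (.leaf ⟨358603, [3, 3, 1, 1, 3, 1, 4, 2, 2], 0⟩) (.leaf ⟨362681, [4, 1, 4, 4, 4, 4, 4, 2, 4, 1], 0⟩))) (.node 378794 (.leaf ⟨365341, [3, 3, 3,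 2, 2, 2, 3, 2, 4, 4], 1⟩) (.node 382369 (.leaf ⟨378794, [1, 3, 2, 4, 2, 4, 2, 2, 2], 1⟩) (.leaf ⟨382369, [3, 2, 2, 4, 4, 4, 1, 4, 2], 0⟩))))) (.node 425532 (.node 409415 (.node 402063 (.leaf ⟨401565, [3, 3, 3, 1, 3, 2, 3, 3], 1⟩) (.node 406357 (.leaf ⟨402063, [3, 2, 2, 2, 2, 2, 2, 2, 3, 3], 0⟩) (.leaf ⟨406357, [4, 1, 4, 1, 4, 1, 1, 4, 2, 3, 1, 1, 4, 2, 4, 4, 2, 4], 1⟩))) (.node 419467 (.leaf ⟨409415, [4, 1, 1, 1, 4, 4, 1, 1, 1, 1], 0⟩) (.node 419546 (.leaf ⟨419467, [], 2⟩) (.leaf ⟨419546, [2, 2, 3, 1, 1, 3, 1, 4, 2, 2], 0⟩)))) (.node 432196 (.node 427278 (.leaf ⟨425532, [4, 1, 3, 2, 4, 4, 2, 3, 3], 0⟩) (.node 429380 (.leaf ⟨427278, [2, 4, 1, 1, 1, 4, 1, 4, 2, 3], 0⟩) (.leaf ⟨429380, [4, 2, 4, 1, 1, 1, 4, 4,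 1], 1⟩))) (.node 432396 (.leaf ⟨432196, [2, 4, 2, 3, 1, 3, 1, 1, 3, 1], 0⟩) (.node 444684 (.leaf ⟨432396, [1, 1, 3, 3, 3, 1, 3, 1, 3, 1, 4, 4, 2, 4, 2, 3, 3], 1⟩) (.leaf ⟨444684, [3, 1, 4, 2, 2, 3, 1, 4, 1, 1], 1⟩)))))) (.node 505361 (.node 482754 (.node 471622 (.node 464685 (.leaf ⟨449396, [1, 4, 1, 4, 4, 1, 4, 2, 4], 0⟩) (.node 465512 (.leaf ⟨464685, [4, 1, 4, 4, 2, 3, 1, 1, 1, 1], 1⟩) (.leaf ⟨465512, [4, 4, 2, 3, 2, 4, 4, 2, 2, 4], 1⟩))) (.node 478853 (.leaf ⟨471622, [4, 1, 3, 3, 3, 2, 2, 4], 1⟩) (.node 481888 (.leaf ⟨478853, [1, 4, 2, 4, 2, 2, 4, 2, 4, 4, 2, 2, 4, 2, 3, 1, 3, 1, 4], 0⟩) (.leaf ⟨481888, [4, 4, 4, 2, 2, 3, 3, 3, 2, 4], 1⟩)))) (.node 496318 (.node 493489 (.leaf ⟨482754, [3, 1, 4, 1, 1, 3, 3,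 3, 1, 4, 1, 1, 1, 4, 4, 1, 3, 1], 0⟩) (.node 495836 (.leaf ⟨493489, [3, 1, 1, 4, 4, 2, 4, 4, 4, 4], 0⟩) (.leaf ⟨495836, [1, 4, 4, 2, 3, 2, 4, 2, 4, 4, 2, 3, 1, 1, 4, 4, 1], 0⟩))) (.node 498377 (.leaf ⟨496318, [3, 1, 1, 4, 1, 3, 3, 3, 3, 3, 2, 2, 3, 1, 1, 4, 2], 0⟩) (.node 499301 (.leaf ⟨498377, [1, 3, 3, 1, 3, 3, 1, 1, 4, 2, 2, 2, 3, 2, 4, 4], 0⟩) (.leaf ⟨499301, [1, 1, 3, 2, 4, 4, 4, 4, 1, 1], 1⟩))))) (.node 521149 (.node 511102 (.node 505588 (.leaf ⟨505361, [1, 4, 2, 3, 1, 3, 2, 2, 2, 4, 1, 1, 4, 1, 1, 1, 4], 0⟩) (.node 508109 (.leaf ⟨505588, [3, 3, 1, 1, 1, 3, 1, 1, 3, 2], 1⟩) (.leaf ⟨508109, [1, 1, 1, 3, 2, 2, 3, 2, 3], 1⟩))) (.node 513029 (.leaf ⟨511102, [2, 2, 3, 3, 2, 4, 1, 1, 3, 3], 0⟩) (.node 514778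 (.leaf ⟨513029, [3, 3, 2, 2, 2, 2, 2, 2, 3, 2], 1⟩) (.leaf ⟨514778, [1, 4, 4, 4, 1, 3, 1, 1, 1, 4], 1⟩)))) (.node 528267 (.node 521984 (.leaf ⟨521149, [1, 4, 4, 4, 1, 3, 1, 1, 1], 1⟩) (.node 523433 (.leaf ⟨521984, [3, 3, 1, 4, 1, 1, 1, 1, 4], 0⟩) (.leaf ⟨523433, [4, 4, 1, 4, 4, 2, 2, 3, 3, 1], 0⟩))) (.node 529645 (.leaf ⟨528267, [1, 1, 3, 1, 3, 1, 1, 3, 2, 2], 0⟩) (.node 533006 (.leaf ⟨529645, [4, 2, 2, 2, 2, 2, 2, 3, 3, 1, 1], 1⟩) (.leaf ⟨533006, [4, 4, 2, 2, 4, 4, 4, 2, 3, 1], 1⟩)))))))) (.node 755704 (.node 638480 (.node 584285 (.node 563589 (.node 545238 (.node 540532 (.leaf ⟨536240, [2, 4, 1, 3, 3, 2, 3, 2], 1⟩) (.node 542400 (.leaf ⟨540532, [4, 2, 2, 3, 2, 2, 3, 3, 3], 1⟩) (.leaf ⟨542400, [2, 4, 1, 1,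 1, 3, 1, 1, 1, 4], 0⟩))) (.node 547204 (.leaf ⟨545238, [1, 4, 2, 2, 3, 3, 2, 2, 4], 1⟩) (.node 558052 (.leaf ⟨547204, [2, 3, 2, 3, 1, 3, 1, 3, 1, 3], 0⟩) (.leaf ⟨558052, [4, 4, 2, 2, 2, 3, 3, 1, 4, 4, 2, 2, 4, 1, 1, 1, 1], 0⟩)))) (.node 579460 (.node 566277 (.leaf ⟨563589, [3, 1, 3, 2, 3, 3, 2, 4, 2, 3, 2, 2, 2, 2, 3, 2, 4], 1⟩) (.node 566798 (.leaf ⟨566277, [2, 4, 1, 3, 1, 1, 3, 2, 2, 2, 3, 2, 3, 1, 1, 4, 4, 1], 0⟩) (.leaf ⟨566798, [2, 4, 4, 2, 3, 1, 4, 2, 4, 2, 2, 4, 1, 4, 1, 3, 3, 1], 0⟩))) (.node 580478 (.leaf ⟨579460, [3, 2, 3, 2, 2, 2, 2, 4, 4, 1], 0⟩) (.node 580810 (.leaf ⟨580478, [4, 4, 1, 4, 2, 2, 3, 3, 3, 3, 1, 1, 4, 2, 2, 3, 2, 4], 1⟩) (.leaf ⟨580810, [2, 4, 4, 4, 4, 4, 4, 1, 4, 1], 0⟩))))) (.node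 605900 (.node 591249 (.node 586861 (.leaf ⟨584285, [3, 2, 3, 3, 3, 3, 2, 4, 1, 1, 1], 1⟩) (.node 588349 (.leaf ⟨586861, [2, 2, 3, 2, 4, 4, 2, 4, 2], 0⟩) (.leaf ⟨588349, [3, 2, 4, 1, 1, 4, 1, 1, 1], 1⟩))) (.node 595026 (.leaf ⟨591249, [1, 1, 3, 2, 2, 2, 4, 4, 1, 1], 1⟩) (.node 597407 (.leaf ⟨595026, [2, 2, 3, 3, 2, 2, 2, 3, 2], 0⟩) (.leaf ⟨597407, [3, 1, 4, 1, 1, 1, 4, 2, 4, 1], 0⟩)))) (.node 619754 (.node 607469 (.leaf ⟨605900, [1, 1, 4, 1, 4, 4, 1, 3, 1, 4], 1⟩) (.node 613632 (.leaf ⟨607469, [3, 3, 1, 1, 4, 4, 1, 4, 1, 3, 1, 3, 1, 3, 3, 1, 3], 1⟩) (.leaf ⟨613632, [1, 3, 1, 1, 3, 2, 4, 2, 4, 2], 1⟩))) (.node 627595 (.leaf ⟨619754, [1, 1, 1, 3, 2, 3, 1, 4, 1, 4], 1⟩) (.node 635390 (.leaf ⟨627595, [2, 4, 2, 2,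 4, 1, 3], 1⟩) (.leaf ⟨635390, [3, 1, 3, 1, 4, 2, 4, 2], 0⟩)))))) (.node 696917 (.node 666982 (.node 654191 (.node 641312 (.leaf ⟨638480, [4, 4, 2, 3, 1, 3, 3, 1, 3, 2], 1⟩) (.node 644410 (.leaf ⟨641312, [3, 3, 2, 2, 4, 1, 3, 2], 1⟩) (.leaf ⟨644410, [3, 1, 1, 1, 1, 3, 3, 3, 2], 0⟩))) (.node 663412 (.leaf ⟨654191, [2, 2, 4, 2, 3, 3, 1, 4, 1, 1], 0⟩) (.node 664369 (.leaf ⟨663412, [3, 2, 3, 1, 3, 1, 3, 1, 1, 1], 0⟩) (.leaf ⟨664369, [2, 4, 4, 1, 3, 2, 4, 1, 1, 3], 0⟩)))) (.node 682868 (.node 669877 (.leaf ⟨666982, [4, 4, 4, 2, 2, 3, 3, 3], 1⟩) (.node 670591 (.leaf ⟨669877, [1, 4, 1, 1, 3, 3, 2, 3, 1, 3], 1⟩) (.leaf ⟨670591, [1, 3, 3, 3, 2, 4, 1, 3], 1⟩))) (.node 687055 (.leaf ⟨682868, [3, 1, 3, 1, 1, 3, 1, 3, 3,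 1], 0⟩) (.node 690658 (.leaf ⟨687055, [1, 3, 3, 3, 1, 1, 1, 3, 3, 1], 1⟩) (.leaf ⟨690658, [3, 1, 3, 1, 1, 3, 1, 1, 3, 3, 2, 4, 2, 4, 2, 3, 3], 1⟩))))) (.node 718910 (.node 710906 (.node 700284 (.leaf ⟨696917, [1, 4, 4, 4, 1, 4, 2, 4, 4], 0⟩) (.node 702575 (.leaf ⟨700284, [2, 3, 1, 1, 4, 4, 4, 4, 2, 3], 0⟩) (.leaf ⟨702575, [3, 2, 3, 3, 3, 1, 1, 1, 1, 1, 4, 1, 1, 3, 2, 4], 0⟩))) (.node 715502 (.leaf ⟨710906, [2, 3, 1, 4, 1, 1, 4, 4, 2, 3], 1⟩) (.node 717809 (.leaf ⟨715502, [4, 1, 4, 2, 4, 1, 1, 1, 1, 1], 1⟩) (.leaf ⟨717809, [4, 1, 4, 2, 4, 2, 4, 2, 2], 1⟩)))) (.node 736030 (.node 719191 (.leaf ⟨718910, [1, 3, 2, 2, 2, 3, 3, 3, 2], 0⟩) (.node 730300 (.leaf ⟨719191, [1, 1, 3, 1, 4, 2, 4, 1, 1, 1, 1], 1⟩) (.leaf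 ⟨730300, [1, 1, 3, 2, 2, 2, 4, 4, 1, 4], 1⟩))) (.node 736714 (.leaf ⟨736030, [4, 1, 3, 3, 3, 2, 2, 3, 1, 3, 1, 1, 1, 4], 1⟩) (.node 746148 (.leaf ⟨736714, [4, 1, 4, 4, 4, 2, 4, 2, 3, 1, 1], 1⟩) (.leaf ⟨746148, [4, 4, 1, 1, 3, 2, 4, 4, 1, 4], 1⟩))))))) (.node 865108 (.node 784798 (.node 769918 (.node 765550 (.node 755997 (.leaf ⟨755704, [3, 1, 3, 3, 3, 1, 3, 3, 1, 1, 1], 1⟩) (.node 762598 (.leaf ⟨755997, [1, 1, 4, 4, 1, 3, 2, 2, 3, 3], 1⟩) (.leaf ⟨762598, [1, 1, 3, 2, 3, 2, 2, 2, 4, 4], 0⟩))) (.node 769594 (.leaf ⟨765550, [4, 1, 3, 1, 4, 1, 3, 1, 4, 1], 0⟩) (.node 769689 (.leaf ⟨769594, [2, 2, 2, 2, 3, 3, 2], 0⟩) (.leaf ⟨769689, [1, 3, 1, 1, 1, 3, 3, 2, 3], 0⟩)))) (.node 777514 (.node 774952 (.leaf ⟨769918, [2,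 3, 2, 3, 3, 2, 3, 2, 2], 0⟩) (.node 775721 (.leaf ⟨774952, [4, 2, 4, 4, 1, 4, 2, 4, 1, 1, 3, 3, 3, 2, 3, 1, 3], 0⟩) (.leaf ⟨775721, [3, 3, 1, 3, 2, 2, 2, 3], 0⟩))) (.node 781149 (.leaf ⟨777514, [1, 1, 4, 4, 2, 2, 4, 1, 1, 1], 0⟩) (.node 783127 (.leaf ⟨781149, [4, 2, 2, 3, 2, 3, 2, 4, 2], 1⟩) (.leaf ⟨783127, [2, 3, 3, 1, 4, 4, 1, 4, 2, 2, 3, 3, 3, 2, 3, 2, 4], 1⟩))))) (.node 827516 (.node 806452 (.node 789820 (.leaf ⟨784798, [2, 4, 4, 2, 3, 2, 3, 2, 3], 1⟩) (.node 800768 (.leaf ⟨789820, [4, 2, 2, 2, 2, 4, 1, 4, 2, 2, 2, 3, 2, 3, 1, 1, 1, 3], 1⟩) (.leaf ⟨800768, [1, 1, 1, 1, 4, 1, 4, 2, 3, 1, 1], 1⟩))) (.node 819884 (.leaf ⟨806452, [1, 4, 2, 2, 3, 1, 1, 4, 4, 2], 1⟩) (.node 824502 (.leaf ⟨819884, [4, 4, 2, 2,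 3, 3, 2, 3, 1, 1], 1⟩) (.leaf ⟨824502, [4, 1, 1, 4, 2, 4], 1⟩)))) (.node 847069 (.node 832602 (.leaf ⟨827516, [3, 1, 1, 3, 3, 2, 2, 3, 2, 4], 0⟩) (.node 843991 (.leaf ⟨832602, [3, 3, 1, 3, 1, 3, 1, 3, 1, 4], 0⟩) (.leaf ⟨843991, [2, 4, 4, 1, 3, 1, 4, 2, 4, 4], 0⟩))) (.node 848308 (.leaf ⟨847069, [3, 1, 1, 1, 3, 2, 4, 4, 4, 1, 1, 3, 3, 1, 1, 3, 3], 0⟩) (.node 860723 (.leaf ⟨848308, [1, 3, 2, 2, 4, 2, 3, 1, 3, 3], 0⟩) (.leaf ⟨860723, [1, 3, 2, 2, 3, 3, 2, 2, 2, 2], 0⟩)))))) (.node 962530 (.node 915631 (.node 896696 (.node 866118 (.leaf ⟨865108, [3, 1, 4, 1, 1, 1, 1, 4, 1, 1], 1⟩) (.node 889332 (.leaf ⟨866118, [4, 4, 2, 4, 2, 4, 1, 3, 2, 4, 1, 3, 2, 3, 3, 2, 4, 1], 1⟩) (.leaf ⟨889332, [4, 1, 4, 1, 1, 3, 3, 3, 1,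 1, 1], 1⟩))) (.node 908577 (.leaf ⟨896696, [3, 3, 2, 4, 2, 4, 1, 4, 1, 3, 1, 1, 1, 4, 4, 2, 4], 0⟩) (.node 915551 (.leaf ⟨908577, [1, 4, 1, 1, 3, 2, 2, 4, 2, 4, 4, 1, 3, 1, 1, 4, 2, 4], 0⟩) (.leaf ⟨915551, [3, 1, 3, 3, 2, 2, 2, 4, 2, 2, 2, 4, 2, 3, 2, 2, 3, 1], 1⟩)))) (.node 932099 (.node 917421 (.leaf ⟨915631, [4, 1, 4, 4, 2, 4, 1, 3, 1, 1, 1, 1, 4, 1, 1, 3], 1⟩) (.node 925626 (.leaf ⟨917421, [2, 2, 4, 4, 4, 1, 4, 2, 2, 2], 1⟩) (.leaf ⟨925626, [4, 1, 1, 4, 2, 4, 2, 2, 3, 1, 3, 3, 1, 3, 1, 3, 1, 1], 1⟩))) (.node 934799 (.leaf ⟨932099, [4, 4, 2, 3, 2, 4, 1, 3, 3, 1], 1⟩) (.node 941896 (.leaf ⟨934799, [2, 4, 4, 2, 4, 1, 1, 4, 2, 3], 0⟩) (.leaf ⟨941896, [1, 1, 4, 1, 1, 3, 1, 3, 3, 1, 1], 1⟩))))) (.node 976724 (.node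 965892 (.node 962763 (.leaf ⟨962530, [2, 4, 1, 4, 1, 4, 1, 4, 1, 1], 0⟩) (.node 965428 (.leaf ⟨962763, [4, 2, 2, 3, 1, 3, 1, 1], 1⟩) (.leaf ⟨965428, [1, 1, 4, 1, 3, 2, 3, 2, 2], 1⟩))) (.node 966604 (.leaf ⟨965892, [3, 2, 4, 4, 1, 4, 4, 2, 4, 1], 0⟩) (.node 975636 (.leaf ⟨966604, [3, 1, 3, 1, 1, 3, 2, 3], 1⟩) (.leaf ⟨975636, [1, 3, 3, 1, 3, 3, 2, 3, 3, 1, 1], 0⟩)))) (.node 986562 (.node 979395 (.leaf ⟨976724, [3, 3, 1, 3, 2, 2, 4, 2, 4, 1, 1, 4, 4, 4, 1, 4, 4, 1], 0⟩) (.node 979588 (.leaf ⟨979395, [1, 1, 3, 2, 2, 4, 2, 2, 4, 1], 1⟩) (.leaf ⟨979588, [1, 4, 4, 4, 2, 2, 3, 1], 0⟩))) (.node 994537 (.leaf ⟨986562, [2, 3, 2, 2, 2, 4, 4, 2, 4, 2], 0⟩) (.node 995784 (.leaf ⟨994537, [3, 1, 1, 3, 3, 1, 4, 1, 4, 4, 1, 1,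 1, 4, 2, 3, 2, 2], 1⟩) (.leaf ⟨995784, [2, 2, 2, 3, 1, 4, 1, 3, 1, 1, 1, 4, 2, 2, 4, 1, 1, 3, 3], 1⟩)))))))))
noncomputable def F2 : FD := ⟨1000003, F2B, [[[], [2], [1], [4], [7], [6], [8], [3], [2, 2], [2, 7], [4, 2], [8, 1], [1, 10], [6, 4], [7, 7], [4, 4]], [[], [2], [4], [6], [5], [4, 2], [2, 4], [6, 2]], [[], [2], [3], [4], [2, 4], [2, 3], [3, 3], [2, 4, 4]]]⟩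
noncomputable def S3 : PD := ⟨[[1, 3, 3, 1, 3, 2, 3, 1, 1, 3, 1, 3, 2, 3, 1, 1, 4, 2], [2, 3, 1, 3, 2, 2, 3, 2, 3, 1, 1, 1, 1, 4, 1, 1, 1, 4, 4], [4, 1, 1, 1, 4, 4, 1, 1, 1, 1]], [([], [[3, 3, 1], [3]]), ([], [[1]]), ([], [])], [⟨19, [[3, 3, 3, 2, 3, 2, 4, 1, 3, 2, 4, 4, 1, 4, 1], [3, 2, 2, 3, 1, 1, 4, 2, 4, 2, 4, 4, 1, 3, 1, 4]], 3⟩, ⟨6, [[1, 3, 2, 2, 4, 1, 4, 2, 4, 2, 2, 4, 1, 4, 2, 4, 4, 2]], 2⟩], [[5, 1], [5, 3, 3], [1, 1]]⟩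
noncomputable def F3B : BT Ent := (.node 481213 (.node 225931 (.node 175207 (.node 87558 (.leaf ⟨86439, [3, 2, 4, 4, 4, 4, 4, 1, 4, 4, 1, 1, 4, 2, 4, 1, 3, 1], 0⟩) (.node 102295 (.leaf ⟨87558, [2, 2, 2, 3, 2, 4, 2, 4, 2, 2], 0⟩) (.leaf ⟨102295, [1, 4, 4, 1, 3, 1, 3, 2, 4, 2, 4, 4, 4, 2, 2, 3, 1], 1⟩))) (.node 207203 (.leaf ⟨175207, [4, 2, 2, 4, 2, 4, 2, 3, 1, 3, 2, 4, 1, 4, 2, 3, 2], 1⟩) (.node 219108 (.leaf ⟨207203, [2, 4, 2, 2, 3, 2, 2, 3, 1, 3, 3, 3, 3, 2, 4, 4, 2], 0⟩) (.leaf ⟨219108, [4, 2, 2, 3, 3, 1, 4, 2, 2, 4, 1, 4, 2, 2, 3, 1, 1, 4], 0⟩)))) (.node 329699 (.node 226510 (.leaf ⟨225931, [4, 2, 4, 4, 4, 1, 4, 2, 4, 2, 2, 4, 1, 1, 4, 1, 1, 4], 0⟩) (.node 267761 (.leaf ⟨226510, [1, 3, 1, 4, 4, 4, 2, 4, 1,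 1, 1, 1, 1, 4, 2, 2, 2, 4, 4], 1⟩) (.leaf ⟨267761, [1, 1, 4, 2, 3, 3, 2, 4, 4, 1, 1, 1, 4, 1, 4, 1, 1, 4], 1⟩))) (.node 387133 (.node 368805 (.leaf ⟨329699, [3, 2, 2, 4, 2, 4, 4, 2, 3, 3], 1⟩) (.leaf ⟨368805, [1, 1, 1, 1, 4, 2, 3, 2, 3, 2], 0⟩)) (.node 419467 (.leaf ⟨387133, [2, 4, 2, 2, 4, 2, 4, 1, 4, 2, 2, 4, 2, 3, 3, 3, 1], 1⟩) (.leaf ⟨419467, [], 2⟩))))) (.node 615384 (.node 514547 (.node 511774 (.leaf ⟨481213, [2, 3, 1, 4, 2, 3, 3, 3, 3, 2, 2, 4, 2, 2, 3, 2, 4, 4], 1⟩) (.node 513138 (.leaf ⟨511774, [2, 4, 2, 2, 4, 4, 4, 1, 3, 3, 1, 4, 1, 4, 2, 4], 1⟩) (.leaf ⟨513138, [1, 1, 3, 3, 3, 2, 3, 3, 2, 3, 2, 2, 2, 2, 2, 3, 1], 0⟩))) (.node 584149 (.node 557121 (.leaf ⟨514547, [2, 3, 2, 2, 4, 1, 4, 4, 2, 2], 0⟩)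 (.leaf ⟨557121, [2, 2, 2, 2, 3, 3, 2, 2, 2, 3], 0⟩)) (.node 613374 (.leaf ⟨584149, [4, 4, 2, 3, 3, 1, 3, 2, 2, 4, 1, 3, 3, 2, 4, 1, 3], 1⟩) (.leaf ⟨613374, [2, 2, 3, 1, 3, 2, 3, 1, 4, 2, 2, 4, 2, 2, 3, 2, 3, 3], 1⟩)))) (.node 867771 (.node 705060 (.leaf ⟨615384, [4, 2, 2, 2, 3, 2, 2, 4, 1, 3], 0⟩) (.node 855150 (.leaf ⟨705060, [2, 3, 1, 4, 2, 2, 4, 2, 2, 2, 4, 2, 4, 1, 4], 0⟩) (.leaf ⟨855150, [2, 4, 4, 1, 1, 1, 1, 4, 4, 4, 2, 3, 3, 3, 1, 3, 2, 4, 1], 1⟩))) (.node 872597 (.node 871592 (.leaf ⟨867771, [3, 2, 2, 3, 3, 3, 3, 2, 4, 2, 4, 1, 4, 2, 4, 1], 0⟩) (.leaf ⟨871592, [4, 4, 2, 3, 1, 3, 1, 1, 3, 1, 1, 3, 2, 2, 2, 4, 4, 1], 1⟩)) (.node 987742 (.leaf ⟨872597, [1, 3, 2, 3, 1, 3, 2, 2, 2, 4, 2, 2, 4, 1, 1, 4, 1,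 3, 3], 0⟩) (.leaf ⟨987742, [2, 4, 1, 4, 1, 4, 1, 4, 2, 4], 0⟩))))))
noncomputable def F3 : FD := ⟨1000003, F3B, [[[], [1], [2], [3], [4], [2, 3], [1, 4], [4, 1], [1, 3]], [[], [1], [2]]]⟩
noncomputable def Q4 : PD := ⟨[[2, 2, 4, 1, 4, 4, 2, 4, 1, 3, 2, 2, 4, 2, 4, 2, 2, 2, 2], [4, 2, 2, 2, 2, 4, 4, 1, 4, 4, 1, 1, 3, 3, 3, 2, 3], [1, 3, 1, 3, 2, 4, 2, 4, 2, 4, 2, 4, 4, 2, 4, 2], [3, 2, 4, 2, 3, 2, 3, 3, 2, 3, 1, 1, 3, 3, 3, 1, 4]], [([], [[1], [3], [5]]), ([], [[1], [3]]), ([], [[1]]), ([], [])], [⟨13, [[2, 4, 2, 4, 2, 4, 2, 4], [1, 3, 1, 3, 2, 4, 2, 4, 2, 4, 2, 4, 4, 2, 4, 2], [4, 2, 4, 2, 2, 4, 2, 4, 2, 4, 2, 4, 1, 3, 1, 3], [4, 1, 1, 3, 1, 4, 4, 4, 2, 3, 1, 3, 2, 3, 2, 4]], 1⟩], [[7, 1], [5], [7, 5, 3], [7,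 5]]⟩
noncomputable def UQ4 : List (List (List Nat)) := [[[5], [7], [5, 3, 1], [7, 5, 1]], [[7, 3, 1], [7, 5, 1], [3, 1], [3]], [[1], [7, 5, 3], [7, 5], [7]], [[7, 3], [7, 3, 1], [7, 5], [3, 1]], [[1], [5], [3], [7]], [[1], [7, 3, 1], [7, 5, 1], [7]], [[7, 3], [7], [5, 1], [3, 1]], [[3, 1], [3], [5, 3], [7, 3]], [[7, 5, 3, 1], [3], [7, 3], [5, 3]], [[5, 3], [3], [3, 1], [7, 5, 3, 1]]]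
noncomputable def CQ4T : Tr := (.sym [[1], [3], [5], [7]] (.cons [] 1 1 (.op 10 0 (.op 22 0 (.focus 0 (.cons [] 0 1 (.op 16 0 (.focus 0 (.cons [] 0 1 (.op 4 2 (.op 10 0 (.focus 0 (.cons [] 0 1 (.op 10 3 (.focus 0 (.cons [] 0 1 (.op 16 2 (.focus 0 (.cons [] 0 1 (.focus 6 (.cons [] 0 1 .triv .nil)) .nil))) .nil))) .nil)))) .nil))) .nil)))) (.cons [3] 0 0 (.op 5 0 (.and 1 0 (.dead0 0))) (.cons [2] 0 0 (.op 5 0 (.and 1 0 (.dead0 0))) (.cons [1, 4] 0 0 (.op 5 0 (.and 1 0 (.dead0 0))) (.cons [2, 2] 0 0 (.op 5 0 (.and 1 0 (.dead0 0))) (.cons [3, 2, 2] 0 0 (.op 5 0 (.and 1 0 (.dead0 0))) (.cons [2, 2, 2] 0 0 (.op 5 0 (.and 1 0 (.dead0 0))) (.cons [1, 1, 1, 1] 0 0 (.op 5 0 (.and 1 0 (.dead0 0))) (.cons [2, 3, 2, 2] 0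 0 (.op 5 0 (.and 1 0 (.dead0 0))) .nil))))))))))
noncomputable def CQ4TK : List (List Nat) := [[2, 2, 4, 1, 4, 4, 2, 4, 1, 3, 2, 2, 4, 2, 4, 2, 2, 2, 2], [4, 2, 2, 2, 2, 4, 4, 1, 4, 4, 1, 1, 3, 3, 3, 2, 3], [1, 3, 1, 3, 2, 4, 2, 4, 2, 4, 2, 4, 4, 2, 4, 2], [3, 2, 4, 2, 3, 2, 3, 3, 2, 3, 1, 1, 3, 3, 3, 1, 4]]
noncomputable def CQ4TF : List (List Nat) := [[], [1], [3], [5], [7], [3, 1], [5, 1], [7, 1], [5, 3], [7, 3], [7, 5], [5, 3, 1], [7, 3, 1], [7, 5, 1], [7, 5, 3], [7, 5, 3, 1]]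
noncomputable def CQ4 : CD := ⟨[⟨0, [[1], [3]], 5⟩, ⟨15, [[2, 3, 1], [1, 3, 1, 3]], 5⟩, ⟨1, [[2, 2, 4, 4, 2, 3], [2, 2, 3, 3, 1, 1, 1]], 5⟩, ⟨18, [[2, 2, 3, 3, 1, 1, 1], [1, 1, 1, 1, 1, 1, 3, 1, 1]], 4⟩, ⟨11, [[2, 2, 3, 2, 4, 4, 1, 4, 1, 3, 2, 2], [1, 3, 3, 3, 1, 4, 1, 3, 3, 2, 3, 1, 1]], 4⟩, ⟨13, [[3, 1, 3, 2, 3, 2, 2, 2, 3, 2, 3, 3, 3, 1, 3], [2, 2, 2, 4, 1, 4, 1, 4, 4, 4, 4, 1, 4, 1, 4, 2], [2, 3, 1, 1, 1, 1, 1, 3, 3, 3, 1, 1, 1, 3, 1, 3]], 2⟩, ⟨2, [[1, 3, 1, 1, 3, 2, 2, 2, 3, 3, 3, 2, 2, 3, 3, 3, 2]], 2⟩], CQ4TF, CQ4TK, CQ4T⟩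
noncomputable def Q6 : PD := ⟨[[4, 1, 3, 2, 3, 2, 4, 4, 2, 4, 1, 4, 2, 3, 3, 1, 3, 2, 2], [1, 1, 3, 1, 4, 2, 3, 3, 3, 2, 4, 2, 4, 2, 3, 3, 2], [4, 1, 4, 1, 1, 1, 4, 1, 4, 1, 1, 1, 3, 2, 4, 1, 4], [3, 3, 1, 4, 2, 4, 2, 2, 3, 2, 2, 3, 1, 1, 3, 3, 3, 1], [1, 4, 1, 4, 1, 4, 4, 1, 1, 3, 2, 4, 1, 1], [1, 4, 2, 3, 2, 2, 4, 4, 4, 4, 2, 3, 3, 3, 1, 3, 3, 2, 2]], [([], [[1], [3], [5], [7], [9]]), ([], [[1], [3], [5], [7]]), ([], [[1], [3], [5]]), ([], [[1], [3]]), ([], [[1]]), ([], [])], [⟨10, [[1, 4, 1, 4, 1, 4, 1, 4], [2, 2, 3, 1, 4, 2, 2, 3, 1, 4], [4, 2, 4, 1, 3, 1, 3, 1, 1, 3, 3, 2, 2], [2, 2, 3, 1, 4, 1, 4, 1, 4, 1, 4, 4, 1, 1], [1, 1, 3, 1, 1, 4, 4, 1, 4, 4, 2, 4, 2, 3], [4, 1, 1, 4, 1, 4, 2, 2, 2, 4, 4, 4, 1,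 1, 1]], 1⟩, ⟨21, [[1, 4, 1, 4, 1, 4, 1, 4], [1, 4, 4, 2, 3, 2, 2, 3, 3, 2, 4, 4, 4, 1, 1], [4, 1, 4, 2, 2, 4, 1, 1, 3, 2, 4, 1, 1, 1, 1, 3, 1], [1, 4, 4, 1, 3, 1, 3, 1, 4, 4, 4, 1, 3, 2, 4, 2, 2]], 1⟩, ⟨18, [[1, 3, 1, 3, 3, 3, 3, 3, 3, 2, 2, 3, 1, 1, 3, 1, 4, 4], [2, 4, 4, 4, 2, 2, 4, 1, 1, 4, 1, 1, 3, 1, 3, 2, 4, 4]], 1⟩], [[11, 7, 3, 1], [11, 9, 7, 3, 1], [3, 1], [11, 9, 5, 3], [11, 9, 5], [5, 3, 1], [11, 7, 3, 1], [11, 9, 7], [11, 9, 3], [3], [11, 7, 1], [7]]⟩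
noncomputable def UQ6 : List (List (List Nat)) := [[[11, 5, 3, 1], [11], [5], [11, 9, 3, 1], [7, 5, 1], [3]], [[1], [3], [7, 3, 1], [5, 3, 1], [11, 7, 1], [9, 5, 3]], [[11, 5, 3, 1], [11, 9, 7, 5], [11, 3], [11, 7, 5, 3], [11, 9, 5, 3], [11, 9, 7]], [[9, 7, 3], [11, 7, 1], [11, 9, 5], [11, 9, 7], [9], [11]], [[9, 7, 3], [7], [11, 5], [9, 3, 1], [11, 9, 7, 1], [3, 1]], [[11, 3], [9, 3, 1], [11, 5, 3, 1], [11, 7, 3, 1], [11, 9, 3, 1], [9, 3]], [[7, 3, 1], [11, 7, 3, 1], [11, 9, 5, 1], [3], [11, 7], [11, 9, 1]]]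
noncomputable def CQ6T : Tr := (.sym [[1], [3], [5], [7], [9], [11]] (.cons [] 1 16 (.op 16 0 (.focus 0 (.cons [] 0 16 (.op 28 2 (.focus 0 (.cons [] 0 16 (.op 28 2 (.focus 0 (.cons [] 0 16 (.op 2 0 (.xor 0 1 (.focus 0 (.xor 1 4 (.focus 0 (.xor 2 7 (.focus 0 (.xor 3 10 (.focus 0 (.sym [[3], [7], [9], [11]] (.cons [] 1 4 (.focus 4 (.focus 3 (.focus 2 (.focus 1 (.xor 5 0 (.focus 0 (.op 10 1 (.focus 0 (.cons [] 0 4 (.focus 2 (.focus 7 (.focus 6 (.focus 5 (.focus 4 (.xor 8 0 (.focus 0 (.base (nat_lit 16225272) (.focus 0 (.sym [[9], [11]] (.cons [] 1 1 .triv (.cons [7] 1 0 (.op 5 0 (.and 1 0 (.dead0 0))) (.cons [5] 1 0 (.op 17 0 (.and 1 0 (.dead0 0))) (.cons [5, 3] 1 0 (.op 8 0 (.and 1 0 (.dead0 0))) .nil))))))))))))))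 .nil))))))))) (.cons [4] 1 0 (.op 5 0 (.and 1 0 (.dead0 0))) (.cons [3] 1 0 (.op 14 0 (.and 1 0 (.dead0 0))) (.cons [9, 3] 1 0 (.op 14 0 (.and 1 0 (.dead0 0))) (.cons [4, 4] 1 0 (.op 8 0 (.and 1 0 (.dead0 0))) .nil))))))))))))))) .nil))) .nil))) .nil))) (.cons [1] 1 0 (.op 5 0 (.and 1 0 (.dead0 0))) (.cons [2] 1 0 (.op 5 0 (.and 1 0 (.dead0 0))) (.cons [2, 4] 1 0 (.op 8 0 (.and 1 0 (.dead0 0))) (.cons [2, 2] 1 0 (.op 5 0 (.and 1 0 (.dead0 0))) (.cons [1, 1, 1] 1 0 (.op 5 0 (.and 1 0 (.dead0 0))) .nil)))))))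
noncomputable def CQ6TK : List (List Nat) := [[4, 1, 3, 2, 3, 2, 4, 4, 2, 4, 1, 4, 2, 3, 3, 1, 3, 2, 2], [1, 1, 3, 1, 4, 2, 3, 3, 3, 2, 4, 2, 4, 2, 3, 3, 2], [4, 1, 4, 1, 1, 1, 4, 1, 4, 1, 1, 1, 3, 2, 4, 1, 4], [3, 3, 1, 4, 2, 4, 2, 2, 3, 2, 2, 3, 1, 1, 3, 3, 3, 1], [2, 3, 2, 4, 1, 1, 3, 3, 2, 2, 2, 4, 1, 4, 4, 2, 3, 3], [3, 2, 3, 2, 3, 2, 3, 2]]
noncomputable def CQ6TF : List (List Nat) := [[], [3], [7], [9], [11], [3, 1], [5, 1], [9, 1], [11, 1], [7, 3], [9, 3], [9, 7], [11, 7], [11, 9], [5, 3, 1], [9, 3, 1], [11, 3, 1], [7, 5, 1], [9, 5, 1], [11, 5, 1], [9, 7, 1]]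
noncomputable def CQ6 : CD := ⟨[⟨0, [[1], [3]], 5⟩, ⟨11, [[2, 3, 1], [1, 3, 1, 3]], 6⟩, ⟨19, [[1, 3, 1, 3], [1, 4, 1, 4]], 5⟩, ⟨10, [[1, 4, 1, 4, 1, 4, 1, 4], [4, 4, 2, 2, 4, 4, 4, 1, 3]], 5⟩, ⟨1, [[2, 2, 3, 3, 3, 2, 2, 3, 3, 2, 3, 2], [4, 2, 4, 1, 4, 1, 1, 4, 2, 3, 3, 1, 1]], 5⟩, ⟨2, [[1, 4, 1, 4, 1, 4, 1, 4], [4, 1, 1, 3, 2, 2, 3, 1, 4, 4, 1, 4, 2], [2, 3, 3, 3, 1, 1, 4, 1, 3, 3, 2, 2, 4, 1, 1]], 1⟩, ⟨3, [[1, 4, 1, 4, 1, 4, 1, 4], [4, 2, 3, 2, 2, 3, 1, 4, 1, 3, 3, 2, 4, 1, 1], [2, 3, 1, 3, 3, 2, 3, 3, 2, 2, 2, 3, 3, 3, 1, 4, 1], [4, 4, 2, 4, 2, 4, 1, 3, 1, 4, 1, 1, 1, 3, 1, 4, 2]], 1⟩], CQ6TF, CQ6TK, CQ6T⟩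
noncomputable def V5 : PD := ⟨[[1, 3, 3, 3, 1, 4, 4, 2, 3, 2, 2, 4, 4, 2, 3, 1, 4], [2, 2, 4, 4, 4, 4, 1, 3, 3, 1, 1, 4, 1, 4, 2, 2, 2]], [([], [[1]]), ([], [])], [⟨5, [[1, 3, 3, 3, 1, 4, 4, 2, 3, 2, 2, 4, 4, 2, 3, 1, 4], [2, 2, 4, 4, 4, 4, 1, 3, 3, 1, 1, 4, 1, 4, 2, 2, 2]], 1⟩], [[1], [3]]⟩
noncomputable def V7 : PD := ⟨[[3, 3, 1, 4, 4, 4, 1, 1, 4, 4, 2, 2, 2, 2, 3, 2, 2]], [([], [])], [⟨1, [[3, 3, 1, 4, 4, 4, 1, 1, 4, 4, 2, 2, 2, 2, 3, 2, 2]], 1⟩], [[1]]⟩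
noncomputable def V0 : PD := ⟨[], [], [], []⟩

end CF.Leech.M
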