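import Cfsg.Agent.Leech.MCls

/-! Ree's inequality for the numbers of cycles; generation of the Mathieu group of degree 23. -/

set_option autoImplicit false
set_option maxRecDepth 1000000

namespace CF.Leech.M

open Cfsg CF.Comp CF.Comp.Mat CF.Bt MulAction Subgroup Finset Cfsg.Spor

section
variable {G X : Type*} [Group G] [MulAction G X] [Fintype X]

/-- the number of cycles -/
noncomputable def cyc (X : Type*) [MulAction G X] (g : G) : ℕ := Nat.card (orbitRel.Quotient (zpowers g) X)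

theorem cyc_mul [Finite G] {g : G} {p : ℕ} (hp : p.Prime) (h : orderOf g = p) :
    cyc X g * p + Nat.card (fixedBy X g) = Fintype.card X + p * Nat.card (fixedBy X g) := by
  classical
  have := Fintype.ofFinite (zpowers g)
  have := Fintype.ofFinite (orbitRel.Quotient (zpowers g) X)
  have h1 := sum_card_fixedBy_eq_card_orbits_mul_card_group (zpowers g) X
  have h2 : Fintype.card (zpowers g) = p := by rw [← Nat.card_eq_fintype_card, Nat.card_zpowers, h]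
  have h3 : ∀ a ∈ univ.erase (1 : zpowers g), Fintype.card (fixedBy X a) = Nat.card (fixedBy X g) := fun a ha => by
    have := Fact.mk hp
    rw [← Nat.card_eq_fintype_card]
    congr 2
    obtain ⟨k, e⟩ := mem_zpowers_of_prime_card (g' := ⟨g, mem_zpowers g⟩) (Nat.card_eq_fintype_card.trans h2)
      (mem_erase.1 ha).1
    obtain ⟨j, e'⟩ := a.2
    refine Set.Subset.antisymm (fun x hx => ?_) fun x hx => ?_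
    · exact (congrArg (· • x) e).symm.trans (fixedBy_subset_fixedBy_zpow X a k hx)
    · exact (congrArg (· • x) e').symm.trans (fixedBy_subset_fixedBy_zpow X g j hx)
  rw [← add_sum_erase _ _ (mem_univ 1), sum_congr rfl h3, sum_const, card_erase_of_mem (mem_univ _), card_univ, h2,
    smul_eq_mul] at h1
  rw [cyc, Nat.card_eq_fintype_card (α := orbitRel.Quotient _ _), ← h1, add_assoc, ← Nat.succ_mul,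
    Nat.succ_eq_add_one, Nat.sub_add_cancel hp.pos]
  simp

omit [Fintype X] in
theorem mk_smul (g : G) (x : X) : (Quotient.mk'' (g • x) : orbitRel.Quotient (zpowers g) X) = Quotient.mk'' x :=
  Quotient.sound' ⟨⟨g, mem_zpowers g⟩, rfl⟩

theorem inv_of_sum {a b : G} {u w : X → ℝ} (hu : ∀ x, u (a • x) = u x)
    (h : ∀ x, u (b • x) - u x = w (a⁻¹ • x) - w x) (x : X) : u (b • x) = u x := by
  have h1 : ∑ y, w (a⁻¹ • y) * u y = ∑ y, w y * u y :=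
    (Equiv.sum_comp (MulAction.toPerm a) fun y => w (a⁻¹ • y) * u y).symm.trans (by simp [hu])
  have h2 : ∑ y, u (b • y) ^ 2 = ∑ y, u y ^ 2 := Equiv.sum_comp (MulAction.toPerm b) fun y => u y ^ 2
  have h3 : ∑ y, (u (b • y) - u y) ^ 2 = 0 := by
    have e : ∀ y, (u (b • y) - u y) ^ 2 = u (b • y) ^ 2 - u y ^ 2 - 2 * (w (a⁻¹ • y) * u y - w y * u y) := fun y => by
      rw [← sub_mul, ← h]; ring
    simp only [e, sum_sub_distrib, ← mul_sum, h1, h2, sub_self, mul_zero]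
  exact sub_eq_zero.1 (pow_eq_zero_iff two_ne_zero |>.1
    ((sum_eq_zero_iff_of_nonneg fun _ _ => sq_nonneg _).1 h3 x (mem_univ x)))

theorem ree {a b c : G} (h : a * b * c = 1) {I : Type} [Fintype I] (ι : I → X)
    (ht : ∀ x, ∃ i, ∃ g ∈ closure {a, b}, g • ι i = x) :
    cyc X a + cyc X b + cyc X c ≤ Fintype.card X + 2 * Fintype.card I := by
  let q : ∀ g : G, X → orbitRel.Quotient (zpowers g) X := fun g => Quotient.mk''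
  have z : ∀ u : X → ℝ, (∀ x, u (a • x) = u x) → (∀ x, u (b • x) = u x) → (∀ i, u (ι i) = 0) → ∀ x, u x = 0 :=
    fun u h1 h2 h3 x => by
      obtain ⟨i, g, hg, rfl⟩ := ht x
      refine Eq.trans ?_ (h3 i)
      generalize ι i = y
      induction hg using closure_induction generalizing y with
      | mem g hg => rcases hg with rfl | rfl; exacts [h1 y, h2 y]
      | one => rw [one_smul]
      | mul g k _ _ s t => rw [mul_smul, s, t]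
      | inv g _ s => rw [← s, smul_inv_smul]
  let φ : ((orbitRel.Quotient (zpowers a) X → ℝ) × (orbitRel.Quotient (zpowers b) X → ℝ)) ×
      (orbitRel.Quotient (zpowers c) X → ℝ) →ₗ[ℝ] (X → ℝ) × (I → ℝ) × (I → ℝ) :=
    { toFun := fun v => (fun x => v.1.1 (q a x) + v.1.2 (q b (a⁻¹ • x)) - v.2 (q c x), fun i => v.1.1 (q a (ι i)),
        fun i => v.1.2 (q b (ι i)))
      map_add' := fun v w => by ext <;> simp; ring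
      map_smul' := fun r v => by ext <;> simp; ring }
  have hφ : Function.Injective φ := (injective_iff_map_eq_zero φ).2 fun ⟨⟨u, w⟩, v⟩ e => by
    have e1 : ∀ x, u (q a x) + w (q b (a⁻¹ • x)) - v (q c x) = 0 := congrFun (congrArg Prod.fst e)
    have e2 : ∀ x, u (q a (b • x)) - u (q a x) = w (q b (a⁻¹ • x)) - w (q b x) := fun x => by
      have e3 := e1 (a • b • x)
      rw [inv_smul_smul, show q a _ = _ from mk_smul a _, show q b _ = _ from mk_smul b _,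
        show q c (a • b • x) = q c x from (mk_smul c _).symm.trans (by
          rw [← mul_smul, ← mul_smul, mul_assoc, mul_eq_one_comm.1 h, one_smul])] at e3
      linarith [e1 x]
    have e3 := inv_of_sum (u := fun x => u (q a x)) (w := fun x => w (q b x)) (fun x => congrArg u (mk_smul a x)) e2
    have e4 := z (fun x => u (q a x)) (fun x => congrArg u (mk_smul a x)) e3 (congrFun (congrArg (·.2.1) e))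
    have e5 := z (fun x => w (q b x)) (fun x => by
      have := e2 (a • x); rw [e4, e4, inv_smul_smul] at this; linarith)
      (fun x => congrArg w (mk_smul b x)) (congrFun (congrArg (·.2.2) e))
    refine Prod.ext (Prod.ext (funext fun y => ?_) (funext fun y => ?_)) (funext fun y => ?_) <;>
      obtain ⟨x, rfl⟩ := Quotient.mk''_surjective y
    exacts [e4 x, e5 x, by simpa [e4, e5] using e1 x]
  have := fun g : G => Fintype.ofFinite (orbitRel.Quotient (zpowers g) X)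
  have := LinearMap.finrank_le_finrank_of_injective hφ
  simp only [Module.finrank_prod, Module.finrank_fintype_fun_eq_card, ← Nat.card_eq_fintype_card] at this ⊢
  rwa [two_mul]

end

/-- two nets, a chain and three orders -/
structure GD where
  x : Net
  y : Net
  c : List Lvl
  p : ℕ
  q : ℕ
  r : ℕ

/-- the two elements generate the group and have the given orders -/
noncomputable def GD.ok (d : GD) : Bool :=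
  lall (fun t => t) [wfAll [d.x, d.y] 24, m24OK [d.x, d.y] 2, keepOK [d.x, d.y] 2 (2 ^ 23), ordOK [d.x, d.y] 24 5 [1] d.p,
    ordOK [d.x, d.y] 24 5 [3] d.q, ordOK [d.x, d.y] 24 5 [4, 2] d.r, geOK [d.x, d.y] 24 d.c 10200960]

theorem GD.sound {d : GD} (h : d.ok = true) (hp : d.p.Prime) (hq : d.q.Prime) (hr : d.r.Prime) :
    ∃ x y z : M23, orderOf x = d.p ∧ orderOf y = d.q ∧ orderOf z = d.r ∧ x * y * z = 1 ∧ closure {x, y} = ⊤ := by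
  simp only [GD.ok, lall_iff, List.forall_mem_cons] at h
  obtain ⟨h1, h2, h3, h4, h5, h6, h7, -⟩ := h
  have R := reps_el h1
  have M : ∀ i, el [d.x, d.y] i ∈ M23 := el_mem rfl (mem_M23_of R h2 h3)
  have R' := reps_sub R M
  have F : Faithful D0 (⊤ : Subgroup M23) := fun g _ e => Subtype.ext (D0_full.faithful ⊤ g trivial e)
  have o := fun w p => orderOf_ev R' k5 (by decide) F (w := w) trivial (p := p)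
  refine ⟨_, _, _, o _ _ hp h4, o _ _ hq h5, o _ _ hr h6, by simp [ev, evL], eq_top_of_le_card _ ?_⟩
  rw [card_M23]
  refine (ble_iff.1 (brec_and.1 h7).2).trans (R'.chain_le (by decide) (brec_and.1 h7).1 fun w _ => ev_mem (fun i => ?_) w)
  rcases i with _ | _ | i
  · exact subset_closure (.inl (ev_single _ 0).symm)
  · exact subset_closure (.inr (ev_single _ 1).symm)
  · exact (show sub _ M (i + 2) = 1 from Subtype.ext (D0_full.els_eq_one (by simp))) ▸ one_mem _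

noncomputable def g2_5_11 : GD := ⟨(Net.cons (nat_lit 1) (nat_lit 5586944) (Net.cons (nat_lit 2) (nat_lit 1249312) (Net.cons (nat_lit 4) (nat_lit 67072) (Net.cons (nat_lit 8) (nat_lit 112) (Net.cons (nat_lit 16) (nat_lit 250) (Net.cons (nat_lit 8) (nat_lit 116) (Net.cons (nat_lit 4) (nat_lit 591368) (Net.cons (nat_lit 2) (nat_lit 1249312) (Net.cons (nat_lit 1) (nat_lit 5587008) Net.nil))))))))), (Net.cons (nat_lit 1) (nat_lit 1393668) (Net.cons (nat_lit 2) (nat_lit 3145728) (Net.cons (nat_lit 4) (nat_lit 656640) (Net.cons (nat_lit 8) (nat_lit 48) (Net.cons (nat_lit 16) (nat_lit 57) (Net.cons (nat_lit 8) (nat_lit 5) (Net.cons (nat_lit 4) (nat_lit 134920) (Net.cons (nat_lit 2) (nat_lit 2241280) (Net.cons (nat_lit 1) (nat_lit 1315840) Net.nil))))))))), [⟨1, [[1], [3]], 7⟩, ⟨0, [[3], [2, 4, 4, 2,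 3, 1, 3, 3, 1]], 4⟩, ⟨2, [[4, 4, 2, 3, 1, 4, 1, 3, 3], [3, 3, 2, 3, 1, 4, 1, 4, 4], [2, 4, 2, 3, 3, 1, 4, 4, 1, 3, 1]], 4⟩, ⟨3, [[4, 4, 2, 3, 1, 4, 1, 3, 3], [4, 2, 4, 2, 4, 2, 4, 1, 3, 1, 3, 1, 4, 4], [4, 4, 2, 3, 3, 2, 4, 1, 3, 1, 4, 4, 1, 3, 3]], 4⟩, ⟨4, [[2, 4, 2, 3, 3, 2, 3, 2, 3, 1, 4, 1, 4, 1, 4, 1], [3, 2, 3, 3, 2, 3, 2, 4, 1, 3, 3, 1, 3, 1, 4, 4], [2, 3, 2, 4, 4, 2, 3, 3, 2, 3, 1, 3, 1, 4, 1, 4, 4, 1]], 2⟩, ⟨5, [[4, 2, 4, 4, 2, 4, 2, 3, 3, 2, 3, 1, 4, 1, 3, 3, 1, 4, 1, 4, 1, 3, 1]], 2⟩], 2, 5, 11⟩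
noncomputable def g2_5_23 : GD := ⟨(Net.cons (nat_lit 1) (nat_lit 332880) (Net.cons (nat_lit 2) (nat_lit 65536) (Net.cons (nat_lit 4) (nat_lit 396032) (Net.cons (nat_lit 8) (nat_lit 1) (Net.cons (nat_lit 16) (nat_lit 105) (Net.cons (nat_lit 8) (nat_lit 147) (Net.cons (nat_lit 4) (nat_lit 393482) (Net.cons (nat_lit 2) (nat_lit 205346) (Net.cons (nat_lit 1) (nat_lit 332880) Net.nil))))))))), (Net.cons (nat_lit 1) (nat_lit 20500) (Net.cons (nat_lit 2) (nat_lit 1249280) (Net.cons (nat_lit 4) (nat_lit 3072) (Net.cons (nat_lit 8) (nat_lit 106) (Net.cons (nat_lit 16) (nat_lit 106) (Net.cons (nat_lit 8) (nat_lit 86) (Net.cons (nat_lit 4) (nat_lit 263685) (Net.cons (nat_lit 2) (nat_lit 209409) (Net.cons (nat_lit 1) (nat_lit 1114368) Net.nil))))))))), [⟨1, [[1], [3]], 8⟩, ⟨0, [[3], [2, 4, 2, 3, 1, 3, 1]],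 6⟩, ⟨2, [[2, 4, 2, 3, 1, 3, 1], [4, 2, 3, 2, 4, 1, 3, 3]], 4⟩, ⟨3, [[2, 3, 2, 3, 2, 4, 1, 3, 1, 4, 1, 4, 1], [4, 2, 3, 3, 2, 4, 1, 3, 1, 4, 4, 1, 3], [2, 4, 2, 3, 3, 2, 3, 2, 4, 1, 3, 1, 4, 1, 3, 3]], 3⟩, ⟨4, [[2, 3, 2, 3, 3, 2, 3, 2, 3, 3, 1, 4, 4, 1, 4, 1, 4, 4, 1, 4, 1], [4, 4, 2, 4, 4, 2, 3, 2, 3, 2, 4, 1, 4, 4, 1, 3, 1, 3, 3, 1, 3, 3, 1], [3, 2, 4, 4, 2, 4, 2, 3, 3, 2, 3, 3, 1, 3, 1, 3, 3, 1, 4, 1, 3, 3, 1]], 2⟩, ⟨5, [[2, 4, 2, 3, 2, 3, 3, 2, 3, 2, 4, 2, 4, 1, 3, 1, 3, 3, 1, 4, 1, 4, 1, 4]], 2⟩], 2, 5, 23⟩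
noncomputable def g2_7_7 : GD := ⟨(Net.cons (nat_lit 1) (nat_lit 16704) (Net.cons (nat_lit 2) (nat_lit 74000) (Net.cons (nat_lit 4) (nat_lit 66560) (Net.cons (nat_lit 8) (nat_lit 16) (Net.cons (nat_lit 16) (nat_lit 50) (Net.cons (nat_lit 8) (nat_lit 88) (Net.cons (nat_lit 4) (nat_lit 198147) (Net.cons (nat_lit 2) (nat_lit 1122576) (Net.cons (nat_lit 1) (nat_lit 16704) Net.nil))))))))), (Net.cons (nat_lit 1) (nat_lit 83264) (Net.cons (nat_lit 2) (nat_lit 73776) (Net.cons (nat_lit 4) (nat_lit 528128) (Net.cons (nat_lit 8) (nat_lit 48) (Net.cons (nat_lit 16) (nat_lit 243) (Net.cons (nat_lit 8) (nat_lit 121) (Net.cons (nat_lit 4) (nat_lit 920068) (Net.cons (nat_lit 2) (nat_lit 1253393) (Net.cons (nat_lit 1) (nat_lit 16469) Net.nil))))))))), [⟨0, [[1], [3]], 7⟩, ⟨1, [[2, 3, 1], [3, 1, 4]], 6⟩, ⟨2,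 [[3, 3, 3, 1, 4, 4, 4], [4, 2, 3, 2, 3, 3, 1, 4, 4, 1, 4, 4]], 5⟩, ⟨3, [[3, 2, 4, 4, 4, 2, 4, 1, 3, 3, 1, 4, 1], [2, 4, 4, 2, 3, 2, 4, 1, 3, 3, 1, 3, 1, 4]], 4⟩, ⟨4, [[2, 4, 4, 2, 3, 3, 2, 3, 2, 3, 3, 3, 1, 3, 1, 4, 1, 3], [4, 2, 4, 2, 3, 3, 2, 3, 3, 1, 3, 3, 1, 4, 4, 4, 1, 4], [4, 4, 2, 4, 4, 4, 2, 4, 4, 1, 3, 3, 1, 3, 3, 3, 1, 3, 3]], 2⟩, ⟨5, [[3, 2, 4, 2, 3, 2, 3, 3, 2, 4, 4, 1, 4, 1, 4, 1, 3, 1, 3, 1, 4, 4, 1]], 2⟩], 2, 7, 7⟩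
noncomputable def g2_7_11 : GD := ⟨(Net.cons (nat_lit 1) (nat_lit 1048640) (Net.cons (nat_lit 2) (nat_lit 1118720) (Net.cons (nat_lit 4) (nat_lit 394240) (Net.cons (nat_lit 8) (nat_lit 36) (Net.cons (nat_lit 16) (nat_lit 110) (Net.cons (nat_lit 8) (nat_lit 36) (Net.cons (nat_lit 4) (nat_lit 462080) (Net.cons (nat_lit 2) (nat_lit 1118720) (Net.cons (nat_lit 1) (nat_lit 1048640) Net.nil))))))))), (Net.cons (nat_lit 1) (nat_lit 5243984) (Net.cons (nat_lit 2) (nat_lit 74016) (Net.cons (nat_lit 4) (nat_lit 264448) (Net.cons (nat_lit 8) (nat_lit 208) (Net.cons (nat_lit 16) (nat_lit 248) (Net.cons (nat_lit 8) (nat_lit 6) (Net.cons (nat_lit 4) (nat_lit 920320) (Net.cons (nat_lit 2) (nat_lit 2175779) (Net.cons (nat_lit 1) (nat_lit 4276292) Net.nil))))))))), [⟨1, [[1], [3]], 6⟩, ⟨0, [[2, 4, 1, 3, 1], [2,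 3, 1, 4, 1], [3, 3, 1, 4, 4]], 4⟩, ⟨2, [[3, 3, 1, 4, 4], [4, 2, 4, 4, 1, 4]], 7⟩, ⟨3, [[3, 3, 1, 4, 4], [2, 3, 2, 3, 2, 4, 1, 3, 1, 4, 1, 4, 1], [2, 4, 4, 2, 3, 2, 4, 1, 3, 3, 1, 3, 1, 3]], 3⟩, ⟨4, [[2, 3, 2, 3, 2, 4, 1, 3, 1, 4, 1, 4, 1], [4, 4, 2, 4, 4, 2, 4, 4, 1, 3, 3, 1, 3, 3, 1, 3, 3], [4, 2, 4, 2, 3, 3, 3, 2, 4, 1, 4, 4, 4, 1, 3, 3, 1, 3, 1]], 2⟩, ⟨5, [[3, 3, 2, 3, 3, 3, 2, 4, 2, 4, 2, 4, 1, 4, 1, 4, 4, 4, 1, 3, 1, 4, 1]], 2⟩], 2, 7, 11⟩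
noncomputable def g2_7_23 : GD := ⟨(Net.cons (nat_lit 1) (nat_lit 5248000) (Net.cons (nat_lit 2) (nat_lit 8736) (Net.cons (nat_lit 4) (nat_lit 256) (Net.cons (nat_lit 8) (nat_lit 163) (Net.cons (nat_lit 4) (nat_lit 66310) (Net.cons (nat_lit 2) (nat_lit 2106144) (Net.cons (nat_lit 1) (nat_lit 5248000) Net.nil))))))), (Net.cons (nat_lit 1) (nat_lit 4211732) (Net.cons (nat_lit 2) (nat_lit 3355424) (Net.cons (nat_lit 4) (nat_lit 263680) (Net.cons (nat_lit 8) (nat_lit 132) (Net.cons (nat_lit 16) (nat_lit 198) (Net.cons (nat_lit 8) (nat_lit 194) (Net.cons (nat_lit 4) (nat_lit 921091) (Net.cons (nat_lit 2) (nat_lit 3224081) (Net.cons (nat_lit 1) (nat_lit 4527365) Net.nil))))))))), [⟨0, [[1], [3]], 7⟩, ⟨1, [[2, 4, 1, 3, 1], [4, 2, 3, 1, 3]], 7⟩, ⟨2, [[2, 3, 1, 4, 1], [4, 2, 3, 2, 3, 3, 1, 4, 1, 4]],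 4⟩, ⟨3, [[2, 4, 1, 3, 1], [2, 3, 2, 4, 4, 1, 3, 3, 1, 4, 1], [3, 2, 3, 2, 3, 1, 4, 1, 4, 1, 4], [3, 3, 2, 3, 3, 3, 1, 4, 4, 4, 1, 4, 4]], 3⟩, ⟨4, [[3, 3, 2, 3, 3, 3, 1, 4, 4, 4, 1, 4, 4], [2, 4, 2, 3, 2, 3, 2, 3, 1, 3, 1, 4, 1, 4, 1, 4], [4, 2, 3, 2, 4, 2, 4, 4, 4, 1, 3, 3, 3, 1, 3, 1, 4, 1, 3]], 2⟩, ⟨5, [[3, 2, 4, 2, 4, 4, 2, 4, 2, 4, 2, 4, 4, 4, 1, 4, 4, 1, 4, 4, 1, 3, 1, 3, 1]], 2⟩], 2, 7, 23⟩
noncomputable def g2_11_11 : GD := ⟨(Net.cons (nat_lit 1) (nat_lit 66640) (Net.cons (nat_lit 2) (nat_lit 2101808) (Net.cons (nat_lit 4) (nat_lit 197632) (Net.cons (nat_lit 8) (nat_lit 161) (Net.cons (nat_lit 16) (nat_lit 161) (Net.cons (nat_lit 8) (nat_lit 167) (Net.cons (nat_lit 4) (nat_lit 197641) (Net.cons (nat_lit 2) (nat_lit 2101808) (Net.cons (nat_lit 1) (nat_lit 328784) Net.nil))))))))), (Net.cons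 (nat_lit 1) (nat_lit 1332224) (Net.cons (nat_lit 2) (nat_lit 3284992) (Net.cons (nat_lit 4) (nat_lit 264448) (Net.cons (nat_lit 8) (nat_lit 20) (Net.cons (nat_lit 16) (nat_lit 215) (Net.cons (nat_lit 8) (nat_lit 240) (Net.cons (nat_lit 4) (nat_lit 527623) (Net.cons (nat_lit 2) (nat_lit 2175251) (Net.cons (nat_lit 1) (nat_lit 348433) Net.nil))))))))), [⟨0, [[1], [3]], 7⟩, ⟨1, [[2, 4, 1, 3], [3, 2, 3, 3, 1]], 5⟩, ⟨2, [[2, 3, 3, 1, 4, 4, 1], [2, 3, 2, 3, 3, 3, 3, 3, 1, 3]], 5⟩, ⟨3, [[3, 2, 3, 2, 3, 1, 4, 4, 1, 4], [3, 3, 2, 3, 3, 3, 1, 4, 1, 4, 1, 4, 1], [3, 2, 3, 3, 3, 3, 3, 1, 4, 4, 4, 4, 4, 1, 4]], 3⟩, ⟨4, [[2, 4, 2, 4, 4, 2, 3, 3, 1, 3, 3, 3, 3, 1, 4, 4], [3, 3, 3, 3, 2, 4, 4, 4, 1, 3, 3, 3, 1, 4, 4, 4, 4], [4, 4, 2, 3, 3, 2, 3, 2, 3, 1, 3, 3, 1, 3, 1, 3, 3, 3]], 2⟩, ⟨5, [[2, 3, 2, 3, 2, 3,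 2, 3, 2, 4, 4, 4, 1, 4, 4, 1, 3, 3, 1, 4, 1, 4, 1, 4]], 2⟩], 2, 11, 11⟩
noncomputable def g2_11_23 : GD := ⟨(Net.cons (nat_lit 1) (nat_lit 5324800) (Net.cons (nat_lit 2) (nat_lit 2236416) (Net.cons (nat_lit 4) (nat_lit 512) (Net.cons (nat_lit 8) (nat_lit 136) (Net.cons (nat_lit 16) (nat_lit 152) (Net.cons (nat_lit 8) (nat_lit 138) (Net.cons (nat_lit 4) (nat_lit 657920) (Net.cons (nat_lit 2) (nat_lit 2240512) (Net.cons (nat_lit 1) (nat_lit 5324868) Net.nil))))))))), (Net.cons (nat_lit 1) (nat_lit 16660) (Net.cons (nat_lit 2) (nat_lit 205312) (Net.cons (nat_lit 4) (nat_lit 131072) (Net.cons (nat_lit 8) (nat_lit 18) (Net.cons (nat_lit 16) (nat_lit 91) (Net.cons (nat_lit 8) (nat_lit 189) (Net.cons (nat_lit 4) (nat_lit 265) (Net.cons (nat_lit 2) (nat_lit 1122352) (Net.cons (nat_lit 1) (nat_lit 87105)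 Net.nil))))))))), [⟨1, [[1], [3]], 7⟩, ⟨0, [[3, 1, 4], [4, 4, 1, 3, 1]], 5⟩, ⟨2, [[4, 1, 3], [3, 2, 3, 1, 4, 4], [2, 3, 2, 3, 1, 4, 4, 1]], 3⟩, ⟨3, [[3, 2, 3, 1, 4, 4], [2, 3, 2, 4, 4, 4, 1, 3, 1, 4, 4, 4], [4, 2, 4, 2, 4, 4, 1, 3, 3, 1, 3, 1, 3]], 3⟩, ⟨4, [[3, 3, 2, 4, 4, 2, 4, 4, 4, 4, 1, 3, 1, 3, 3, 3, 1], [4, 4, 2, 4, 2, 3, 2, 3, 1, 4, 1, 4, 1, 3, 1, 3, 3], [4, 4, 2, 3, 2, 4, 4, 2, 4, 4, 4, 1, 4, 1, 4, 1, 3, 3]], 2⟩, ⟨5, [[2, 4, 2, 4, 4, 2, 4, 2, 3, 3, 3, 3, 1, 4, 1, 4, 4, 4, 1, 4]], 2⟩], 2, 11, 23⟩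
noncomputable def g2_23_23 : GD := ⟨(Net.cons (nat_lit 1) (nat_lit 1114176) (Net.cons (nat_lit 2) (nat_lit 2297856) (Net.cons (nat_lit 4) (nat_lit 788736) (Net.cons (nat_lit 8) (nat_lit 66) (Net.cons (nat_lit 16) (nat_lit 90) (Net.cons (nat_lit 8) (nat_lit 227) (Net.cons (nat_lit 4) (nat_lit 788740) (Net.cons (nat_lit 2) (nat_lit 2297856) (Net.cons (nat_lit 1) (nat_lit 1114176) Net.nil))))))))), (Net.cons (nat_lit 1) (nat_lit 5505092) (Net.cons (nat_lit 2) (nat_lit 1049376) (Net.cons (nat_lit 4) (nat_lit 722432) (Net.cons (nat_lit 8) (nat_lit 48) (Net.cons (nat_lit 16) (nat_lit 240) (Net.cons (nat_lit 8) (nat_lit 122) (Net.cons (nat_lit 4) (nat_lit 590351) (Net.cons (nat_lit 2) (nat_lit 3354625) (Net.cons (nat_lit 1) (nat_lit 4522069) Net.nil))))))))), [⟨0, [[1], [3]], 6⟩, ⟨1, [[2, 3, 3, 3],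 [2, 4, 1, 3, 1]], 6⟩, ⟨2, [[2, 4, 1, 3, 1], [4, 2, 3, 3, 1, 4, 4, 1, 3], [2, 4, 4, 2, 4, 1, 3, 1, 3, 3, 1]], 4⟩, ⟨3, [[4, 2, 3, 2, 3, 1, 4, 4, 1, 3], [4, 4, 2, 4, 4, 4, 4, 4, 4, 1, 3]], 4⟩, ⟨4, [[2, 3, 2, 4, 4, 2, 4, 1, 4, 1, 3, 1, 3, 3, 1], [3, 2, 4, 4, 2, 4, 2, 4, 1, 3, 1, 3, 1, 3, 3, 1, 4], [3, 3, 2, 4, 4, 4, 4, 4, 4, 4, 4, 4, 1, 3, 1, 3, 3, 3, 3]], 2⟩, ⟨5, [[2, 4, 2, 4, 2, 4, 2, 3, 2, 3, 3, 3, 1, 4, 4, 4, 1, 3, 1, 3, 3, 1, 3, 3]], 2⟩], 2, 23, 23⟩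
noncomputable def g3_3_11 : GD := ⟨(Net.cons (nat_lit 1) (nat_lit 1065280) (Net.cons (nat_lit 2) (nat_lit 2306096) (Net.cons (nat_lit 4) (nat_lit 1024) (Net.cons (nat_lit 8) (nat_lit 150) (Net.cons (nat_lit 16) (nat_lit 150) (Net.cons (nat_lit 8) (nat_lit 76) (Net.cons (nat_lit 4) (nat_lit 3084) (Net.cons (nat_lit 2) (nat_lit 2240528) (Net.cons (nat_lit 1) (nat_lit 1065280) Net.nil))))))))), (Net.cons (nat_lit 1) (nat_lit 4195396) (Net.cons (nat_lit 2) (nat_lit 12320) (Net.cons (nat_lit 4) (nat_lit 198912) (Net.cons (nat_lit 8) (nat_lit 8) (Net.cons (nat_lit 16) (nat_lit 154) (Net.cons (nat_lit 8) (nat_lit 1) (Net.cons (nat_lit 4) (nat_lit 592138) (Net.cons (nat_lit 2) (nat_lit 143889) (Net.cons (nat_lit 1) (nat_lit 4259924) Net.nil))))))))), [⟨1, [[1], [3]], 8⟩, ⟨0, [[4, 2], [2, 3, 1]], 5⟩,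 ⟨2, [[2, 4, 2, 3], [1, 3, 1, 3, 2, 4, 1]], 4⟩, ⟨3, [[2, 4, 1, 4, 1, 3, 2, 3, 2, 3, 1], [3, 1, 4, 1, 4, 1, 3, 2, 3, 2, 4]], 4⟩, ⟨4, [[2, 4, 2, 3, 1, 3, 1, 3, 1, 4, 1, 3, 2, 4, 2, 4], [1, 3, 2, 4, 1, 3, 1, 4, 1, 3, 2, 4, 1, 3, 1, 4, 1], [1, 3, 2, 4, 2, 3, 1, 4, 1, 3, 2, 4, 2, 3, 1, 4, 1]], 2⟩, ⟨5, [[1, 3, 1, 4, 1, 4, 1, 4, 2, 4, 1, 3, 1, 4, 1, 3, 1, 3, 1]], 2⟩], 3, 3, 11⟩
noncomputable def g3_3_23 : GD := ⟨(Net.cons (nat_lit 1) (nat_lit 1328132) (Net.cons (nat_lit 2) (nat_lit 304) (Net.cons (nat_lit 4) (nat_lit 328960) (Net.cons (nat_lit 8) (nat_lit 1) (Net.cons (nat_lit 16) (nat_lit 29) (Net.cons (nat_lit 8) (nat_lit 73) (Net.cons (nat_lit 4) (nat_lit 262146) (Net.cons (nat_lit 2) (nat_lit 4097) (Net.cons (nat_lit 1) (nat_lit 1311748) Net.nil))))))))), (Net.cons (nat_lit 1) (nat_lit 1310740) (Net.cons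 (nat_lit 2) (nat_lit 3153920) (Net.cons (nat_lit 4) (nat_lit 458752) (Net.cons (nat_lit 8) (nat_lit 160) (Net.cons (nat_lit 16) (nat_lit 240) (Net.cons (nat_lit 8) (nat_lit 194) (Net.cons (nat_lit 4) (nat_lit 394760) (Net.cons (nat_lit 2) (nat_lit 3285026) (Net.cons (nat_lit 1) (nat_lit 1069140) Net.nil))))))))), [⟨0, [[1], [3]], 8⟩, ⟨1, [[3], [1, 3, 1, 3, 1, 4, 2]], 5⟩, ⟨2, [[2, 4, 1, 3, 2, 3, 1], [4, 2, 4, 2, 3, 2, 4, 2, 4, 2]], 4⟩, ⟨3, [[3, 1, 3, 2, 4, 2, 4, 1, 4, 1, 3], [3, 1, 3, 1, 3, 1, 4, 2, 4, 2, 4, 1, 4]], 4⟩, ⟨4, [[2, 3, 2, 4, 2, 3, 1, 3, 2, 4, 2, 3, 1, 3, 1, 3, 2, 4], [2, 3, 1, 3, 2, 3, 2, 4, 1, 3, 1, 3, 2, 3, 2, 3, 1, 3, 1], [3, 1, 3, 2, 3, 2, 3, 2, 4, 2, 3, 2, 4, 2, 3, 1, 3, 1, 3]], 2⟩, ⟨5, [[4, 2, 3, 2, 4, 1, 3, 1, 4, 2, 4, 1, 4, 2, 3, 2, 4, 1, 3, 2]], 2⟩], 3, 3, 23⟩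
noncomputable def g3_5_5 : GD := ⟨(Net.cons (nat_lit 1) (nat_lit 5325140) (Net.cons (nat_lit 2) (nat_lit 12336) (Net.cons (nat_lit 4) (nat_lit 67072) (Net.cons (nat_lit 8) (nat_lit 2) (Net.cons (nat_lit 16) (nat_lit 58) (Net.cons (nat_lit 8) (nat_lit 22) (Net.cons (nat_lit 4) (nat_lit 65549) (Net.cons (nat_lit 2) (nat_lit 2105377) (Net.cons (nat_lit 1) (nat_lit 5325141) Net.nil))))))))), (Net.cons (nat_lit 1) (nat_lit 4457472) (Net.cons (nat_lit 2) (nat_lit 3223808) (Net.cons (nat_lit 4) (nat_lit 133632) (Net.cons (nat_lit 8) (nat_lit 3) (Net.cons (nat_lit 16) (nat_lit 75) (Net.cons (nat_lit 8) (nat_lit 62) (Net.cons (nat_lit 4) (nat_lit 655374) (Net.cons (nat_lit 2) (nat_lit 1127185) (Net.cons (nat_lit 1) (nat_lit 4474113) Net.nil))))))))), [⟨0, [[1], [3]], 7⟩, ⟨1, [[1, 4, 1], [3, 1, 4]], 4⟩,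 ⟨2, [[2, 3, 2, 4, 2, 3], [4, 2, 3, 3, 1, 4]], 4⟩, ⟨3, [[2, 3, 2, 3, 2, 3, 2, 3, 2, 3], [1, 3, 3, 1, 4, 2, 3, 3, 2, 3, 3]], 4⟩, ⟨4, [[2, 3, 1, 3, 2, 3, 1, 3, 2, 3, 1, 3], [2, 3, 1, 4, 4, 2, 4, 2, 3, 2, 3, 3, 1, 3], [4, 4, 2, 3, 2, 3, 1, 4, 4, 1, 3, 3, 2, 3]], 2⟩, ⟨5, [[3, 2, 3, 1, 3, 3, 1, 3, 1, 3, 3, 2, 3, 1, 4, 4]], 2⟩], 3, 5, 5⟩
noncomputable def g3_5_7 : GD := ⟨(Net.cons (nat_lit 1) (nat_lit 81920) (Net.cons (nat_lit 2) (nat_lit 1057280) (Net.cons (nat_lit 4) (nat_lit 590848) (Net.cons (nat_lit 8) (nat_lit 34) (Net.cons (nat_lit 16) (nat_lit 163) (Net.cons (nat_lit 8) (nat_lit 20) (Net.cons (nat_lit 4) (nat_lit 525058) (Net.cons (nat_lit 2) (nat_lit 1061632) (Net.cons (nat_lit 1) (nat_lit 345104) Net.nil))))))))), (Net.cons (nat_lit 1) (nat_lit 1310992) (Net.cons (nat_lit 2) (nat_lit 2175488)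 (Net.cons (nat_lit 4) (nat_lit 395008) (Net.cons (nat_lit 8) (nat_lit 165) (Net.cons (nat_lit 16) (nat_lit 229) (Net.cons (nat_lit 8) (nat_lit 140) (Net.cons (nat_lit 4) (nat_lit 921095) (Net.cons (nat_lit 2) (nat_lit 2241024) (Net.cons (nat_lit 1) (nat_lit 1134869) Net.nil))))))))), [⟨0, [[1], [3]], 6⟩, ⟨1, [[2, 4], [1, 4, 1, 3, 2]], 4⟩, ⟨2, [[4, 1, 3, 3, 1, 3, 1], [3, 3, 2, 3, 1, 4, 4]], 4⟩, ⟨3, [[4, 1, 3, 3, 1, 3, 1], [3, 1, 4, 2, 3, 3, 1]], 4⟩, ⟨4, [[4, 2, 3, 3, 2, 3, 2, 4, 1, 3, 1, 4, 1], [4, 1, 3, 2, 4, 4, 1, 3, 3, 1, 4, 2, 3], [3, 2, 4, 4, 2, 4, 1, 4, 2, 3, 2, 3, 2]], 2⟩, ⟨5, [[3, 1, 4, 4, 1, 3, 2, 3, 2, 4, 4, 2, 4, 1, 4, 1, 3]], 2⟩], 3, 5, 7⟩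
noncomputable def g3_5_11 : GD := ⟨(Net.cons (nat_lit 1) (nat_lit 1130576) (Net.cons (nat_lit 2) (nat_lit 139808) (Net.cons (nat_lit 4) (nat_lit 196608) (Net.cons (nat_lit 8) (nat_lit 12) (Net.cons (nat_lit 16) (nat_lit 30) (Net.cons (nat_lit 8) (nat_lit 42) (Net.cons (nat_lit 4) (nat_lit 133376) (Net.cons (nat_lit 2) (nat_lit 143904) (Net.cons (nat_lit 1) (nat_lit 1134864) Net.nil))))))))), (Net.cons (nat_lit 1) (nat_lit 4456724) (Net.cons (nat_lit 2) (nat_lit 1245472) (Net.cons (nat_lit 4) (nat_lit 197120) (Net.cons (nat_lit 8) (nat_lit 120) (Net.cons (nat_lit 16) (nat_lit 120) (Net.cons (nat_lit 8) (nat_lit 29) (Net.cons (nat_lit 4) (nat_lit 724745) (Net.cons (nat_lit 2) (nat_lit 1253632) (Net.cons (nat_lit 1) (nat_lit 4456724) Net.nil))))))))), [⟨1, [[1], [3]], 6⟩, ⟨0, [[3], [2, 3, 1, 3,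 1]], 4⟩, ⟨2, [[4, 1, 4, 2, 3, 2], [4, 4, 1, 3, 1, 3, 2, 3, 1]], 5⟩, ⟨3, [[3, 1, 4, 1, 4, 4, 1, 4, 2, 4], [3, 2, 4, 2, 3, 1, 4, 1, 3, 1, 4], [4, 2, 3, 3, 2, 3, 3, 2, 4, 1, 4, 4]], 3⟩, ⟨4, [[3, 2, 4, 2, 3, 1, 4, 1, 3, 1, 4], [2, 3, 1, 4, 4, 2, 4, 1, 3, 2, 4, 1, 3, 2], [2, 3, 1, 3, 1, 3, 2, 4, 1, 4, 2, 4, 2, 4]], 2⟩, ⟨5, [[3, 1, 4, 4, 2, 4, 4, 1, 3, 1, 3, 2, 4, 4, 2, 4, 1]], 2⟩], 3, 5, 11⟩
noncomputable def g3_5_23 : GD := ⟨(Net.cons (nat_lit 1) (nat_lit 327744) (Net.cons (nat_lit 2) (nat_lit 256) (Net.cons (nat_lit 4) (nat_lit 786688) (Net.cons (nat_lit 8) (nat_lit 192) (Net.cons (nat_lit 16) (nat_lit 224) (Net.cons (nat_lit 8) (nat_lit 178) (Net.cons (nat_lit 4) (nat_lit 786696) (Net.cons (nat_lit 2) (nat_lit 66048) (Net.cons (nat_lit 1) (nat_lit 81988) Net.nil))))))))), (Net.cons (nat_lit 1)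 (nat_lit 4214784) (Net.cons (nat_lit 2) (nat_lit 1114624) (Net.cons (nat_lit 4) (nat_lit 524288) (Net.cons (nat_lit 8) (nat_lit 140) (Net.cons (nat_lit 16) (nat_lit 175) (Net.cons (nat_lit 8) (nat_lit 108) (Net.cons (nat_lit 4) (nat_lit 919560) (Net.cons (nat_lit 2) (nat_lit 3154448) (Net.cons (nat_lit 1) (nat_lit 4198468) Net.nil))))))))), [⟨1, [[1], [3]], 7⟩, ⟨2, [[2, 3, 1], [4, 1, 3], [4, 4, 1, 3, 3]], 3⟩, ⟨0, [[2, 4, 1, 4, 1, 3], [4, 4, 1, 3, 2, 3]], 5⟩, ⟨3, [[1, 4, 1, 3, 1, 4, 2, 3, 2], [3, 3, 2, 3, 2, 4, 2, 4, 1, 3, 3]], 4⟩, ⟨4, [[4, 2, 3, 2, 4, 2, 4, 2, 3, 1, 3, 1, 3, 3, 1], [4, 4, 1, 4, 2, 4, 2, 3, 2, 3, 2, 3, 1, 4, 1], [4, 2, 4, 1, 4, 1, 4, 2, 3, 3, 2, 3, 2, 4, 1]], 2⟩, ⟨5, [[4, 2, 3, 2, 4, 2, 4, 2, 3, 1, 3, 1, 3, 3, 1]], 2⟩], 3, 5, 23⟩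
noncomputable def g3_7_7 : GD := ⟨(Net.cons (nat_lit 1) (nat_lit 4473092) (Net.cons (nat_lit 2) (nat_lit 3224064) (Net.cons (nat_lit 4) (nat_lit 67584) (Net.cons (nat_lit 16) (nat_lit 82) (Net.cons (nat_lit 8) (nat_lit 144) (Net.cons (nat_lit 4) (nat_lit 852992) (Net.cons (nat_lit 2) (nat_lit 1061394) (Net.cons (nat_lit 1) (nat_lit 4474116) Net.nil)))))))), (Net.cons (nat_lit 1) (nat_lit 267536) (Net.cons (nat_lit 2) (nat_lit 205344) (Net.cons (nat_lit 4) (nat_lit 256) (Net.cons (nat_lit 8) (nat_lit 33) (Net.cons (nat_lit 16) (nat_lit 57) (Net.cons (nat_lit 8) (nat_lit 88) (Net.cons (nat_lit 4) (nat_lit 198403) (Net.cons (nat_lit 2) (nat_lit 209699) (Net.cons (nat_lit 1) (nat_lit 1048837) Net.nil))))))))), [⟨1, [[1], [3]], 5⟩, ⟨0, [[1, 4], [2, 4, 2, 3]], 5⟩, ⟨2, [[2, 4, 2, 3], [2, 3, 2, 3, 2,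 4, 4, 1]], 4⟩, ⟨3, [[4, 4, 1, 4, 1, 3, 3, 2], [3, 3, 2, 4, 2, 3, 1, 4, 4, 4, 1]], 4⟩, ⟨4, [[4, 4, 2, 4, 1, 4, 1, 3, 1, 4, 1, 4, 2, 3], [4, 4, 1, 3, 1, 3, 3, 2, 4, 4, 2, 4, 1, 3, 1], [3, 3, 2, 4, 1, 4, 4, 2, 3, 2, 4, 4, 2, 4, 2]], 2⟩, ⟨5, [[2, 4, 2, 4, 4, 2, 3, 1, 3, 2, 3, 1, 4, 2, 4, 2]], 2⟩], 3, 7, 7⟩
noncomputable def g3_7_11 : GD := ⟨(Net.cons (nat_lit 1) (nat_lit 4260112) (Net.cons (nat_lit 2) (nat_lit 2175744) (Net.cons (nat_lit 4) (nat_lit 787712) (Net.cons (nat_lit 8) (nat_lit 131) (Net.cons (nat_lit 16) (nat_lit 243) (Net.cons (nat_lit 8) (nat_lit 225) (Net.cons (nat_lit 4) (nat_lit 789761) (Net.cons (nat_lit 2) (nat_lit 2171648) (Net.cons (nat_lit 1) (nat_lit 4260112) Net.nil))))))))), (Net.cons (nat_lit 1) (nat_lit 1131796) (Net.cons (nat_lit 2) (nat_lit 1126912) (Net.cons (nat_lit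 4) (nat_lit 658944) (Net.cons (nat_lit 8) (nat_lit 97) (Net.cons (nat_lit 16) (nat_lit 245) (Net.cons (nat_lit 8) (nat_lit 242) (Net.cons (nat_lit 4) (nat_lit 984588) (Net.cons (nat_lit 2) (nat_lit 209459) (Net.cons (nat_lit 1) (nat_lit 1066068) Net.nil))))))))), [⟨0, [[1], [3]], 5⟩, ⟨1, [[1, 3, 2], [2, 3, 1, 4]], 4⟩, ⟨2, [[2, 4, 4, 1, 3, 3, 1], [1, 3, 2, 4, 2, 4, 2, 4]], 5⟩, ⟨3, [[4, 4, 2, 3, 3, 1, 4, 2, 3, 2], [3, 3, 2, 4, 4, 1, 3, 3, 1, 4, 4]], 4⟩, ⟨4, [[2, 3, 1, 4, 1, 4, 1, 4, 2, 3, 1, 3, 1], [4, 2, 4, 4, 1, 3, 1, 3, 2, 4, 2, 3, 1, 3], [2, 4, 2, 3, 3, 3, 2, 3, 1, 4, 4, 4, 1, 3]], 2⟩, ⟨5, [[3, 2, 3, 2, 4, 2, 4, 2, 3, 1, 4, 2, 3, 3, 2]], 2⟩], 3, 7, 11⟩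
noncomputable def g3_7_23 : GD := ⟨(Net.cons (nat_lit 1) (nat_lit 1344) (Net.cons (nat_lit 2) (nat_lit 528) (Net.cons (nat_lit 4) (nat_lit 133376) (Net.cons (nat_lit 8) (nat_lit 8) (Net.cons (nat_lit 16) (nat_lit 104) (Net.cons (nat_lit 8) (nat_lit 188) (Net.cons (nat_lit 4) (nat_lit 131329) (Net.cons (nat_lit 2) (nat_lit 1188400) (Net.cons (nat_lit 1) (nat_lit 20800) Net.nil))))))))), (Net.cons (nat_lit 1) (nat_lit 1280) (Net.cons (nat_lit 2) (nat_lit 1245184) (Net.cons (nat_lit 4) (nat_lit 526848) (Net.cons (nat_lit 8) (nat_lit 129) (Net.cons (nat_lit 16) (nat_lit 197) (Net.cons (nat_lit 8) (nat_lit 168) (Net.cons (nat_lit 4) (nat_lit 921092) (Net.cons (nat_lit 2) (nat_lit 74530) (Net.cons (nat_lit 1) (nat_lit 1048645) Net.nil))))))))), [⟨0, [[1], [3]], 4⟩, ⟨1, [[1, 3, 1, 4], [4, 4, 1, 3, 1]],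 5⟩, ⟨2, [[1, 3, 1, 4], [2, 3, 1, 4, 1]], 4⟩, ⟨3, [[1, 3, 2, 3, 3, 1, 4, 1, 4, 4], [1, 4, 2, 4, 4, 1, 4, 4, 1, 3, 3]], 4⟩, ⟨4, [[4, 2, 3, 3, 1, 4, 1, 3, 3, 2, 4, 4, 2, 3], [2, 4, 2, 3, 1, 4, 4, 1, 3, 3, 2, 4, 1, 3, 1], [1, 4, 4, 2, 4, 1, 3, 2, 3, 2, 4, 4, 2, 3, 1]], 3⟩, ⟨5, [[1, 4, 4, 2, 4, 1, 3, 2, 3, 2, 4, 4, 2, 3, 1]], 2⟩], 3, 7, 23⟩
noncomputable def g3_11_11 : GD := ⟨(Net.cons (nat_lit 1) (nat_lit 4194324) (Net.cons (nat_lit 2) (nat_lit 3276848) (Net.cons (nat_lit 4) (nat_lit 395520) (Net.cons (nat_lit 16) (nat_lit 71) (Net.cons (nat_lit 8) (nat_lit 193) (Net.cons (nat_lit 4) (nat_lit 920834) (Net.cons (nat_lit 2) (nat_lit 3145776) (Net.cons (nat_lit 1) (nat_lit 4195328) Net.nil)))))))), (Net.cons (nat_lit 1) (nat_lit 328980) (Net.cons (nat_lit 2) (nat_lit 1049088) (Net.cons (nat_lit 4) (nat_lit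 1280) (Net.cons (nat_lit 8) (nat_lit 82) (Net.cons (nat_lit 16) (nat_lit 91) (Net.cons (nat_lit 8) (nat_lit 155) (Net.cons (nat_lit 4) (nat_lit 65550) (Net.cons (nat_lit 2) (nat_lit 1049137) (Net.cons (nat_lit 1) (nat_lit 86097) Net.nil))))))))), [⟨0, [[1], [3]], 5⟩, ⟨1, [[4, 4, 4, 2], [2, 3, 1, 4]], 5⟩, ⟨2, [[4, 4, 1, 3, 3], [2, 4, 4, 4, 2, 4, 4, 2]], 6⟩, ⟨3, [[2, 3, 1, 3, 1, 4, 2, 4, 1], [3, 1, 4, 1, 4, 1, 3, 3, 3], [4, 4, 1, 3, 1, 4, 1, 3, 2, 3]], 3⟩, ⟨4, [[4, 4, 1, 3, 1, 4, 1, 3, 2, 3], [4, 4, 2, 3, 3, 1, 4, 4, 4, 1, 3, 1, 3, 2], [4, 4, 1, 3, 2, 3, 3, 2, 3, 2, 3, 1, 3, 2]], 2⟩, ⟨5, [[3, 1, 3, 3, 2, 4, 4, 1, 3, 2, 3, 2, 4, 2, 3, 3, 1]], 2⟩], 3, 11, 11⟩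
noncomputable def g3_11_23 : GD := ⟨(Net.cons (nat_lit 1) (nat_lit 5588052) (Net.cons (nat_lit 2) (nat_lit 1057296) (Net.cons (nat_lit 4) (nat_lit 855040) (Net.cons (nat_lit 8) (nat_lit 6) (Net.cons (nat_lit 16) (nat_lit 150) (Net.cons (nat_lit 8) (nat_lit 78) (Net.cons (nat_lit 4) (nat_lit 461825) (Net.cons (nat_lit 2) (nat_lit 1057298) (Net.cons (nat_lit 1) (nat_lit 5571652) Net.nil))))))))), (Net.cons (nat_lit 1) (nat_lit 5509392) (Net.cons (nat_lit 2) (nat_lit 3281680) (Net.cons (nat_lit 8) (nat_lit 232) (Net.cons (nat_lit 16) (nat_lit 235) (Net.cons (nat_lit 8) (nat_lit 73) (Net.cons (nat_lit 4) (nat_lit 786947) (Net.cons (nat_lit 2) (nat_lit 1122611) (Net.cons (nat_lit 1) (nat_lit 5571604) Net.nil)))))))), [⟨0, [[1], [3]], 6⟩, ⟨1, [[4, 1, 3], [2, 4, 4, 2]], 5⟩, ⟨2, [[3, 3, 2, 4, 1], [3,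 1, 3, 3, 3, 3, 2]], 3⟩, ⟨3, [[3, 1, 4, 4, 4, 2, 3, 2, 3], [1, 4, 4, 4, 2, 4, 2, 4, 4, 1, 3]], 4⟩, ⟨4, [[2, 3, 2, 3, 2, 3, 1, 4, 1, 4, 1, 4, 1], [2, 4, 2, 3, 2, 4, 1, 3, 2, 4, 1, 3, 2, 4], [2, 4, 4, 4, 4, 2, 4, 2, 4, 4, 1, 3, 1, 3, 1]], 2⟩, ⟨5, [[1, 4, 2, 3, 3, 2, 3, 3, 3, 1, 3, 1, 4, 2, 3]], 2⟩], 3, 11, 23⟩
noncomputable def g3_23_23 : GD := ⟨(Net.cons (nat_lit 1) (nat_lit 1312016) (Net.cons (nat_lit 2) (nat_lit 2109440) (Net.cons (nat_lit 4) (nat_lit 919552) (Net.cons (nat_lit 8) (nat_lit 32) (Net.cons (nat_lit 16) (nat_lit 164) (Net.cons (nat_lit 8) (nat_lit 105) (Net.cons (nat_lit 4) (nat_lit 393740) (Net.cons (nat_lit 2) (nat_lit 3158305) (Net.cons (nat_lit 1) (nat_lit 266580) Net.nil))))))))), (Net.cons (nat_lit 1) (nat_lit 4215056) (Net.cons (nat_lit 2) (nat_lit 2229024) (Net.cons (nat_lit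 4) (nat_lit 984320) (Net.cons (nat_lit 8) (nat_lit 73) (Net.cons (nat_lit 16) (nat_lit 107) (Net.cons (nat_lit 8) (nat_lit 78) (Net.cons (nat_lit 4) (nat_lit 985351) (Net.cons (nat_lit 2) (nat_lit 2167570) (Net.cons (nat_lit 1) (nat_lit 4261137) Net.nil))))))))), [⟨0, [[1], [3]], 5⟩, ⟨1, [[4, 1, 3], [2, 3, 1, 3, 3, 3]], 5⟩, ⟨2, [[3, 3, 1, 4, 2, 3, 1], [4, 1, 4, 4, 2, 4, 1], [3, 1, 3, 3, 2, 3, 2]], 3⟩, ⟨3, [[3, 2, 3, 1, 4, 2, 3], [3, 1, 3, 3, 2, 3, 2], [4, 4, 1, 4, 1, 3, 2, 3, 3]], 2⟩, ⟨4, [[3, 3, 3, 2, 4, 4, 2, 4, 1, 4, 4], [4, 2, 4, 1, 4, 2, 3, 1, 3, 3, 3, 3], [4, 4, 4, 4, 4, 4, 1, 3, 3, 3, 3, 3, 3]], 2⟩, ⟨5, [[2, 4, 2, 3, 3, 1, 3, 3, 3, 3, 3, 2, 3, 3, 3, 3, 1, 3]], 2⟩], 3, 23, 23⟩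
noncomputable def g5_5_5 : GD := ⟨(Net.cons (nat_lit 1) (nat_lit 87108) (Net.cons (nat_lit 2) (nat_lit 2175008) (Net.cons (nat_lit 4) (nat_lit 198656) (Net.cons (nat_lit 8) (nat_lit 48) (Net.cons (nat_lit 16) (nat_lit 57) (Net.cons (nat_lit 8) (nat_lit 161) (Net.cons (nat_lit 4) (nat_lit 655360) (Net.cons (nat_lit 2) (nat_lit 2294275) (Net.cons (nat_lit 1) (nat_lit 1066069) Net.nil))))))))), (Net.cons (nat_lit 1) (nat_lit 4522320) (Net.cons (nat_lit 2) (nat_lit 3149824) (Net.cons (nat_lit 4) (nat_lit 526336) (Net.cons (nat_lit 8) (nat_lit 8) (Net.cons (nat_lit 16) (nat_lit 174) (Net.cons (nat_lit 8) (nat_lit 42) (Net.cons (nat_lit 4) (nat_lit 789248) (Net.cons (nat_lit 2) (nat_lit 3277104) (Net.cons (nat_lit 1) (nat_lit 5571856) Net.nil))))))))), [⟨0, [[1], [3]], 5⟩, ⟨1, [[3], [1, 3, 1, 3, 2]],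 4⟩, ⟨2, [[2, 3, 2, 3, 2, 3], [3, 1, 4, 2, 4, 2, 3]], 6⟩, ⟨3, [[2, 4, 4, 2, 4, 4, 2, 2, 4, 2], [4, 1, 4, 4, 2, 3, 2, 3, 3, 1, 1]], 4⟩, ⟨4, [[2, 4, 4, 1, 3, 2, 4, 1, 3, 2, 4, 1, 1], [3, 3, 2, 2, 4, 1, 1, 4, 2, 4, 1, 3, 1], [4, 1, 4, 4, 1, 4, 1, 3, 2, 2, 3, 2, 3, 2]], 2⟩, ⟨5, [[1, 4, 1, 1, 4, 4, 1, 3, 1, 4, 2, 2, 3, 1, 4, 2]], 2⟩], 5, 5, 5⟩
noncomputable def g5_5_7 : GD := ⟨(Net.cons (nat_lit 1) (nat_lit 344400) (Net.cons (nat_lit 2) (nat_lit 1053200) (Net.cons (nat_lit 4) (nat_lit 262144) (Net.cons (nat_lit 16) (nat_lit 83) (Net.cons (nat_lit 8) (nat_lit 149) (Net.cons (nat_lit 4) (nat_lit 68870) (Net.cons (nat_lit 2) (nat_lit 1184560) (Net.cons (nat_lit 1) (nat_lit 1345) Net.nil)))))))), (Net.cons (nat_lit 1) (nat_lit 279824) (Net.cons (nat_lit 2) (nat_lit 2301952) (Net.cons (nat_lit 4) (nat_lit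 986112) (Net.cons (nat_lit 8) (nat_lit 160) (Net.cons (nat_lit 16) (nat_lit 189) (Net.cons (nat_lit 8) (nat_lit 210) (Net.cons (nat_lit 4) (nat_lit 461829) (Net.cons (nat_lit 2) (nat_lit 3342371) (Net.cons (nat_lit 1) (nat_lit 278801) Net.nil))))))))), [⟨0, [[1], [3]], 5⟩, ⟨1, [[2, 3], [3, 1, 4]], 5⟩, ⟨2, [[3, 1, 4, 2, 3], [2, 3, 1, 1, 4, 4]], 4⟩, ⟨3, [[4, 1, 4, 2, 2, 4, 2, 4], [3, 3, 2, 4, 4, 1, 4, 1, 3]], 3⟩, ⟨4, [[3, 3, 1, 3, 2, 3, 2, 3, 2, 4, 1], [2, 3, 1, 4, 4, 1, 1, 4, 2, 2, 3, 3], [2, 3, 1, 4, 4, 1, 4, 1, 1, 3, 2, 4]], 2⟩, ⟨5, [[3, 3, 1, 3, 2, 3, 2, 4, 1, 1, 4, 2, 2, 3, 3]], 2⟩], 5, 5, 7⟩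
noncomputable def g5_5_11 : GD := ⟨(Net.cons (nat_lit 1) (nat_lit 4526336) (Net.cons (nat_lit 2) (nat_lit 2306064) (Net.cons (nat_lit 4) (nat_lit 329216) (Net.cons (nat_lit 8) (nat_lit 16) (Net.cons (nat_lit 16) (nat_lit 121) (Net.cons (nat_lit 8) (nat_lit 180) (Net.cons (nat_lit 4) (nat_lit 852994) (Net.cons (nat_lit 2) (nat_lit 2109472) (Net.cons (nat_lit 1) (nat_lit 5325077) Net.nil))))))))), (Net.cons (nat_lit 1) (nat_lit 4281344) (Net.cons (nat_lit 2) (nat_lit 204800) (Net.cons (nat_lit 4) (nat_lit 131328) (Net.cons (nat_lit 8) (nat_lit 24) (Net.cons (nat_lit 16) (nat_lit 57) (Net.cons (nat_lit 8) (nat_lit 134) (Net.cons (nat_lit 4) (nat_lit 525057) (Net.cons (nat_lit 2) (nat_lit 140067) (Net.cons (nat_lit 1) (nat_lit 4215040) Net.nil))))))))), [⟨0, [[1], [3]], 4⟩, ⟨1, [[3, 1, 4], [2, 2,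 3, 1]], 5⟩, ⟨2, [[1, 3, 1, 3, 2, 4, 2], [2, 3, 3, 1, 3, 2, 3, 3]], 4⟩, ⟨3, [[3, 2, 4, 2, 2, 3, 2, 3, 1], [2, 3, 2, 4, 1, 3, 1, 1, 4, 2]], 4⟩, ⟨4, [[3, 2, 4, 2, 2, 3, 2, 3, 1], [2, 4, 1, 3, 1, 1, 4, 2, 3, 3, 1, 4], [3, 3, 2, 3, 3, 1, 1, 4, 2, 4, 1, 1, 4]], 2⟩, ⟨5, [[2, 4, 1, 1, 3, 1, 3, 2, 4, 2, 3, 2, 4, 1, 1]], 2⟩], 5, 5, 11⟩
noncomputable def g5_5_23 : GD := ⟨(Net.cons (nat_lit 1) (nat_lit 4539476) (Net.cons (nat_lit 2) (nat_lit 2097952) (Net.cons (nat_lit 8) (nat_lit 4) (Net.cons (nat_lit 16) (nat_lit 37) (Net.cons (nat_lit 8) (nat_lit 105) (Net.cons (nat_lit 4) (nat_lit 590850) (Net.cons (nat_lit 2) (nat_lit 2101552) (Net.cons (nat_lit 1) (nat_lit 5329173) Net.nil)))))))), (Net.cons (nat_lit 1) (nat_lit 1069328) (Net.cons (nat_lit 2) (nat_lit 3276816) (Net.cons (nat_lit 8) (nat_lit 2) (Net.cons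 (nat_lit 16) (nat_lit 3) (Net.cons (nat_lit 8) (nat_lit 136) (Net.cons (nat_lit 4) (nat_lit 789763) (Net.cons (nat_lit 2) (nat_lit 3277585) (Net.cons (nat_lit 1) (nat_lit 333137) Net.nil)))))))), [⟨0, [[1], [3]], 5⟩, ⟨1, [[4, 4, 1], [3, 1, 4]], 4⟩, ⟨3, [[4, 4, 2, 3, 2, 3, 1], [4, 1, 1, 4, 2, 4, 1]], 4⟩, ⟨2, [[2, 2, 4, 1, 3, 3, 1, 3, 1, 4], [4, 1, 4, 2, 2, 3, 2, 4, 2, 3, 1]], 5⟩, ⟨4, [[4, 2, 3, 1, 3, 3, 2, 4, 1, 4, 2, 2], [4, 1, 4, 2, 3, 2, 4, 2, 4, 1, 3, 1, 1], [3, 1, 1, 4, 1, 3, 2, 3, 3, 1, 3, 1, 3]], 2⟩, ⟨5, [[4, 1, 1, 3, 3, 2, 3, 2, 2, 3, 3, 1, 3]], 2⟩], 5, 5, 23⟩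
noncomputable def g5_7_7 : GD := ⟨(Net.cons (nat_lit 1) (nat_lit 64) (Net.cons (nat_lit 2) (nat_lit 65792) (Net.cons (nat_lit 4) (nat_lit 256) (Net.cons (nat_lit 8) (nat_lit 90) (Net.cons (nat_lit 16) (nat_lit 94) (Net.cons (nat_lit 8) (nat_lit 23) (Net.cons (nat_lit 4) (nat_lit 264197) (Net.cons (nat_lit 2) (nat_lit 1056769) (Net.cons (nat_lit 1) (nat_lit 65872) Net.nil))))))))), (Net.cons (nat_lit 1) (nat_lit 1119568) (Net.cons (nat_lit 2) (nat_lit 3158272) (Net.cons (nat_lit 4) (nat_lit 198144) (Net.cons (nat_lit 8) (nat_lit 32) (Net.cons (nat_lit 16) (nat_lit 176) (Net.cons (nat_lit 8) (nat_lit 115) (Net.cons (nat_lit 4) (nat_lit 460040) (Net.cons (nat_lit 2) (nat_lit 3219971) (Net.cons (nat_lit 1) (nat_lit 1332480) Net.nil))))))))), [⟨0, [[1], [3]], 4⟩, ⟨1, [[1, 3, 2], [4, 2, 3, 3]], 4⟩,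 ⟨2, [[1, 4, 2, 4, 4, 1, 3], [3, 2, 4, 1, 4, 2, 2]], 4⟩, ⟨3, [[2, 2, 4, 1, 1, 4, 2, 4, 4, 1], [2, 2, 4, 1, 1, 3, 2, 3, 3, 2], [2, 4, 4, 4, 2, 4, 2, 3, 3, 2]], 3⟩, ⟨4, [[3, 2, 3, 1, 3, 2, 3, 3, 2, 3, 3, 2, 2], [2, 3, 2, 2, 4, 2, 3, 3, 3, 1, 3, 3, 1, 3], [2, 2, 3, 1, 4, 4, 2, 3, 2, 4, 4, 1, 3, 3]], 2⟩, ⟨5, [[4, 2, 2, 3, 2, 2, 4, 1, 4, 4, 4, 1, 4, 2, 2, 3]], 2⟩], 5, 7, 7⟩
noncomputable def g5_7_11 : GD := ⟨(Net.cons (nat_lit 1) (nat_lit 5587988) (Net.cons (nat_lit 2) (nat_lit 2175520) (Net.cons (nat_lit 4) (nat_lit 131840) (Net.cons (nat_lit 8) (nat_lit 150) (Net.cons (nat_lit 16) (nat_lit 158) (Net.cons (nat_lit 8) (nat_lit 4) (Net.cons (nat_lit 4) (nat_lit 656641) (Net.cons (nat_lit 2) (nat_lit 2097968) (Net.cons (nat_lit 1) (nat_lit 5264389) Net.nil))))))))), (Net.cons (nat_lit 1) (nat_lit 4527120)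 (Net.cons (nat_lit 2) (nat_lit 209664) (Net.cons (nat_lit 4) (nat_lit 655360) (Net.cons (nat_lit 8) (nat_lit 56) (Net.cons (nat_lit 16) (nat_lit 62) (Net.cons (nat_lit 8) (nat_lit 125) (Net.cons (nat_lit 4) (nat_lit 722697) (Net.cons (nat_lit 2) (nat_lit 2171139) (Net.cons (nat_lit 1) (nat_lit 4527377) Net.nil))))))))), [⟨0, [[1], [3]], 5⟩, ⟨1, [[4, 4, 1], [3, 1, 4]], 5⟩, ⟨2, [[4, 4, 1], [2, 2, 3, 1, 1]], 4⟩, ⟨3, [[4, 2, 3, 2, 3, 2, 3, 2], [3, 2, 2, 3, 1, 4, 2, 4]], 4⟩, ⟨4, [[3, 2, 4, 2, 3, 2, 3, 2, 2], [4, 4, 1, 4, 4, 2, 3, 3, 3, 1, 1], [1, 1, 3, 3, 2, 2, 4, 4, 4, 1, 3, 1, 1]], 2⟩, ⟨5, [[3, 2, 4, 2, 3, 2, 3, 2, 2]], 2⟩], 5, 7, 11⟩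
noncomputable def g5_7_23 : GD := ⟨(Net.cons (nat_lit 1) (nat_lit 282948) (Net.cons (nat_lit 2) (nat_lit 135936) (Net.cons (nat_lit 4) (nat_lit 524544) (Net.cons (nat_lit 8) (nat_lit 65) (Net.cons (nat_lit 16) (nat_lit 209) (Net.cons (nat_lit 8) (nat_lit 136) (Net.cons (nat_lit 4) (nat_lit 983048) (Net.cons (nat_lit 2) (nat_lit 140081) (Net.cons (nat_lit 1) (nat_lit 1392960) Net.nil))))))))), (Net.cons (nat_lit 1) (nat_lit 5324816) (Net.cons (nat_lit 2) (nat_lit 1049344) (Net.cons (nat_lit 4) (nat_lit 720896) (Net.cons (nat_lit 8) (nat_lit 212) (Net.cons (nat_lit 16) (nat_lit 252) (Net.cons (nat_lit 8) (nat_lit 133) (Net.cons (nat_lit 4) (nat_lit 328194) (Net.cons (nat_lit 2) (nat_lit 1060866) (Net.cons (nat_lit 1) (nat_lit 4461585) Net.nil))))))))), [⟨0, [[1], [3]], 4⟩, ⟨1, [[1, 1, 4, 4], [1,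 3, 3, 1, 1]], 5⟩, ⟨3, [[1, 3, 3, 2, 4, 4], [3, 2, 3, 2, 2, 3, 1]], 4⟩, ⟨2, [[1, 1, 3, 2, 4, 1, 1, 3, 1, 3, 1], [3, 3, 2, 3, 1, 4, 4, 1, 1, 4, 1]], 4⟩, ⟨4, [[1, 3, 1, 4, 4, 1, 3, 2, 4, 2, 3, 1, 3], [2, 2, 4, 4, 2, 2, 4, 2, 4, 2, 2, 4, 4, 1], [2, 2, 3, 1, 3, 2, 3, 1, 3, 3, 3, 1, 1, 3]], 2⟩, ⟨5, [[2, 3, 3, 3, 2, 2, 4, 2, 3, 2, 2, 4, 4, 2]], 2⟩], 5, 7, 23⟩
noncomputable def g5_11_11 : GD := ⟨(Net.cons (nat_lit 1) (nat_lit 5200) (Net.cons (nat_lit 2) (nat_lit 1249280) (Net.cons (nat_lit 8) (nat_lit 49) (Net.cons (nat_lit 16) (nat_lit 115) (Net.cons (nat_lit 8) (nat_lit 39) (Net.cons (nat_lit 4) (nat_lit 330244) (Net.cons (nat_lit 2) (nat_lit 139521) (Net.cons (nat_lit 1) (nat_lit 1314833) Net.nil)))))))), (Net.cons (nat_lit 1) (nat_lit 1312016) (Net.cons (nat_lit 2) (nat_lit 65808) (Net.cons (nat_lit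 4) (nat_lit 591104) (Net.cons (nat_lit 8) (nat_lit 20) (Net.cons (nat_lit 16) (nat_lit 247) (Net.cons (nat_lit 8) (nat_lit 252) (Net.cons (nat_lit 4) (nat_lit 920832) (Net.cons (nat_lit 2) (nat_lit 1053458) (Net.cons (nat_lit 1) (nat_lit 328964) Net.nil))))))))), [⟨0, [[1], [3]], 5⟩, ⟨1, [[4, 4, 1], [4, 1, 3]], 4⟩, ⟨2, [[1, 4, 2, 3, 1, 4], [3, 1, 1, 4, 1, 3, 1]], 4⟩, ⟨3, [[1, 1, 3, 2, 4, 4, 4, 4, 2, 2], [2, 2, 4, 1, 1, 4, 4, 1, 1, 4]], 4⟩, ⟨4, [[4, 4, 2, 3, 3, 1, 4, 1, 4, 4, 1, 4], [2, 3, 3, 1, 3, 2, 3, 3, 1, 3, 3, 1, 3, 2], [4, 1, 3, 3, 2, 3, 1, 1, 4, 1, 1, 4, 4, 4]], 2⟩, ⟨5, [[1, 4, 4, 2, 3, 1, 1, 3, 2, 3, 1, 3, 2, 4, 1, 4]], 2⟩], 5, 11, 11⟩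
noncomputable def g5_11_23 : GD := ⟨(Net.cons (nat_lit 1) (nat_lit 1115412) (Net.cons (nat_lit 2) (nat_lit 65824) (Net.cons (nat_lit 4) (nat_lit 265216) (Net.cons (nat_lit 8) (nat_lit 53) (Net.cons (nat_lit 16) (nat_lit 53) (Net.cons (nat_lit 8) (nat_lit 215) (Net.cons (nat_lit 4) (nat_lit 462093) (Net.cons (nat_lit 2) (nat_lit 1118499) (Net.cons (nat_lit 1) (nat_lit 70932) Net.nil))))))))), (Net.cons (nat_lit 1) (nat_lit 282900) (Net.cons (nat_lit 2) (nat_lit 2167584) (Net.cons (nat_lit 4) (nat_lit 589824) (Net.cons (nat_lit 8) (nat_lit 22) (Net.cons (nat_lit 16) (nat_lit 30) (Net.cons (nat_lit 8) (nat_lit 234) (Net.cons (nat_lit 4) (nat_lit 592133) (Net.cons (nat_lit 2) (nat_lit 3158032) (Net.cons (nat_lit 1) (nat_lit 1332309) Net.nil))))))))), [⟨0, [[1], [3]], 4⟩, ⟨1, [[2, 4, 1, 4], [1, 4,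 4, 4]], 4⟩, ⟨2, [[1, 4, 1, 3, 2], [3, 2, 4, 2, 3, 1, 3]], 4⟩, ⟨3, [[4, 1, 1, 4, 2, 4, 1, 1, 4, 4], [3, 1, 3, 1, 4, 1, 1, 3, 1, 1, 3]], 4⟩, ⟨4, [[4, 1, 3, 3, 1, 3, 3, 1, 3, 3, 3], [2, 2, 3, 3, 2, 4, 2, 3, 3, 2, 4, 2], [4, 4, 1, 1, 3, 1, 3, 1, 1, 3, 2, 4]], 2⟩, ⟨5, [[3, 2, 4, 4, 4, 1, 3, 3, 3, 1, 1, 4, 1, 4]], 2⟩], 5, 11, 23⟩
noncomputable def g5_23_23 : GD := ⟨(Net.cons (nat_lit 1) (nat_lit 1066064) (Net.cons (nat_lit 2) (nat_lit 208928) (Net.cons (nat_lit 4) (nat_lit 264192) (Net.cons (nat_lit 8) (nat_lit 18) (Net.cons (nat_lit 16) (nat_lit 94) (Net.cons (nat_lit 8) (nat_lit 90) (Net.cons (nat_lit 4) (nat_lit 2056) (Net.cons (nat_lit 2) (nat_lit 1245745) (Net.cons (nat_lit 1) (nat_lit 331840) Net.nil))))))))), (Net.cons (nat_lit 1) (nat_lit 70676) (Net.cons (nat_lit 2) (nat_lit 200736) (Net.cons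 (nat_lit 4) (nat_lit 986112) (Net.cons (nat_lit 8) (nat_lit 132) (Net.cons (nat_lit 16) (nat_lit 167) (Net.cons (nat_lit 8) (nat_lit 32) (Net.cons (nat_lit 4) (nat_lit 788230) (Net.cons (nat_lit 2) (nat_lit 131617) (Net.cons (nat_lit 1) (nat_lit 328000) Net.nil))))))))), [⟨0, [[1], [3]], 5⟩, ⟨1, [[4, 1, 1], [3, 1, 4]], 5⟩, ⟨2, [[1, 3, 3, 2, 4, 4, 1], [2, 4, 1, 1, 3, 3, 1, 3]], 4⟩, ⟨3, [[4, 2, 2, 4, 1, 3, 1, 3, 1], [1, 1, 3, 3, 1, 3, 1, 4, 1, 3, 1]], 5⟩, ⟨4, [[1, 1, 3, 3, 1, 3, 1, 4, 1, 3, 1], [2, 2, 3, 3, 3, 2, 3, 1, 1, 3, 3, 1, 1], [4, 4, 4, 2, 4, 4, 4, 4, 2, 2, 4, 1, 1]], 2⟩, ⟨5, [[3, 3, 2, 4, 2, 3, 3, 3, 1, 3, 3, 1, 3, 3, 3]], 2⟩], 5, 23, 23⟩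
noncomputable def g7_7_7 : GD := ⟨(Net.cons (nat_lit 1) (nat_lit 5570560) (Net.cons (nat_lit 2) (nat_lit 3145776) (Net.cons (nat_lit 4) (nat_lit 133888) (Net.cons (nat_lit 8) (nat_lit 36) (Net.cons (nat_lit 16) (nat_lit 164) (Net.cons (nat_lit 8) (nat_lit 24) (Net.cons (nat_lit 4) (nat_lit 264194) (Net.cons (nat_lit 2) (nat_lit 1060899) (Net.cons (nat_lit 1) (nat_lit 4476933) Net.nil))))))))), (Net.cons (nat_lit 1) (nat_lit 1312084) (Net.cons (nat_lit 2) (nat_lit 2097952) (Net.cons (nat_lit 4) (nat_lit 460032) (Net.cons (nat_lit 8) (nat_lit 240) (Net.cons (nat_lit 16) (nat_lit 252) (Net.cons (nat_lit 8) (nat_lit 121) (Net.cons (nat_lit 4) (nat_lit 720896) (Net.cons (nat_lit 2) (nat_lit 3154179) (Net.cons (nat_lit 1) (nat_lit 278868) Net.nil))))))))), [⟨0, [[1], [3]], 4⟩, ⟨1, [[2, 2, 4, 1], [2,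 4, 4, 2]], 4⟩, ⟨2, [[2, 2, 3, 2, 2, 3], [1, 4, 4, 1, 3, 3, 2]], 4⟩, ⟨3, [[3, 3, 2, 3, 3, 1, 1], [3, 2, 2, 4, 4, 2, 2, 3, 3]], 5⟩, ⟨4, [[3, 3, 2, 3, 3, 1, 1], [1, 3, 2, 3, 1, 1, 3, 1, 3, 1, 1], [4, 1, 1, 4, 2, 3, 2, 4, 4, 1, 1, 4, 1]], 2⟩, ⟨5, [[2, 4, 4, 1, 1, 3, 1, 4, 4, 1, 1, 3, 2, 4]], 2⟩], 7, 7, 7⟩
noncomputable def g7_7_11 : GD := ⟨(Net.cons (nat_lit 1) (nat_lit 282944) (Net.cons (nat_lit 2) (nat_lit 3150336) (Net.cons (nat_lit 4) (nat_lit 264704) (Net.cons (nat_lit 8) (nat_lit 72) (Net.cons (nat_lit 16) (nat_lit 201) (Net.cons (nat_lit 8) (nat_lit 146) (Net.cons (nat_lit 4) (nat_lit 2) (Net.cons (nat_lit 2) (nat_lit 3276835) (Net.cons (nat_lit 1) (nat_lit 86100) Net.nil))))))))), (Net.cons (nat_lit 1) (nat_lit 5309440) (Net.cons (nat_lit 2) (nat_lit 135216) (Net.cons (nat_lit 4) (nat_lit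 262912) (Net.cons (nat_lit 16) (nat_lit 232) (Net.cons (nat_lit 8) (nat_lit 124) (Net.cons (nat_lit 4) (nat_lit 393478) (Net.cons (nat_lit 2) (nat_lit 2241073) (Net.cons (nat_lit 1) (nat_lit 5244181) Net.nil)))))))), [⟨0, [[1], [3]], 5⟩, ⟨1, [[4, 4, 1], [2, 4, 2, 3]], 5⟩, ⟨2, [[1, 1, 1, 3, 3, 2, 2], [3, 1, 3, 1, 4, 2, 2]], 7⟩, ⟨3, [[4, 4, 2, 2, 3, 3, 1, 1, 3], [1, 1, 1, 4, 2, 3, 3, 1, 3]], 4⟩, ⟨4, [[2, 3, 3, 2, 4, 2, 2, 3, 3, 2, 4, 2], [4, 1, 1, 4, 4, 2, 4, 2, 3, 2, 3, 1, 1], [1, 3, 2, 4, 2, 3, 2, 4, 2, 2, 2, 3, 1]], 2⟩, ⟨5, [[1, 3, 2, 4, 2, 4, 4, 4, 1, 4, 4, 4, 2, 3, 1]], 2⟩], 7, 7, 11⟩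
noncomputable def g7_7_23 : GD := ⟨(Net.cons (nat_lit 1) (nat_lit 345088) (Net.cons (nat_lit 2) (nat_lit 78112) (Net.cons (nat_lit 4) (nat_lit 917504) (Net.cons (nat_lit 8) (nat_lit 64) (Net.cons (nat_lit 16) (nat_lit 214) (Net.cons (nat_lit 8) (nat_lit 150) (Net.cons (nat_lit 4) (nat_lit 787713) (Net.cons (nat_lit 2) (nat_lit 12560) (Net.cons (nat_lit 1) (nat_lit 263504) Net.nil))))))))), (Net.cons (nat_lit 1) (nat_lit 20496) (Net.cons (nat_lit 2) (nat_lit 1183760) (Net.cons (nat_lit 4) (nat_lit 2560) (Net.cons (nat_lit 8) (nat_lit 2) (Net.cons (nat_lit 16) (nat_lit 46) (Net.cons (nat_lit 8) (nat_lit 182) (Net.cons (nat_lit 4) (nat_lit 262923) (Net.cons (nat_lit 2) (nat_lit 1053489) (Net.cons (nat_lit 1) (nat_lit 1392720) Net.nil))))))))), [⟨0, [[1], [3]], 5⟩, ⟨1, [[2, 3], [3, 1, 4]], 4⟩, ⟨2,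 [[4, 2, 2, 3, 1, 3], [3, 1, 4, 1, 1, 3, 3]], 5⟩, ⟨3, [[4, 1, 3, 1, 4, 4, 1], [1, 3, 2, 4, 1, 1, 4, 2, 4, 4], [1, 4, 4, 2, 3, 2, 3, 3, 1, 1, 1]], 3⟩, ⟨4, [[4, 1, 1, 3, 2, 4, 4, 4, 1, 3, 2, 3, 1], [3, 3, 2, 4, 1, 4, 2, 2, 3, 2, 4, 4, 2], [2, 3, 2, 3, 1, 4, 2, 3, 3, 1, 3, 2, 4, 1]], 2⟩, ⟨5, [[4, 1, 4, 4, 2, 3, 3, 2, 2, 3, 3, 3, 2, 2]], 2⟩], 7, 7, 23⟩
noncomputable def g7_11_11 : GD := ⟨(Net.cons (nat_lit 1) (nat_lit 331776) (Net.cons (nat_lit 2) (nat_lit 4144) (Net.cons (nat_lit 4) (nat_lit 393728) (Net.cons (nat_lit 8) (nat_lit 22) (Net.cons (nat_lit 16) (nat_lit 62) (Net.cons (nat_lit 8) (nat_lit 32) (Net.cons (nat_lit 4) (nat_lit 395269) (Net.cons (nat_lit 2) (nat_lit 1192242) (Net.cons (nat_lit 1) (nat_lit 282964) Net.nil))))))))), (Net.cons (nat_lit 1) (nat_lit 4276500) (Net.cons (nat_lit 2)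 (nat_lit 2162992) (Net.cons (nat_lit 4) (nat_lit 263168) (Net.cons (nat_lit 8) (nat_lit 200) (Net.cons (nat_lit 16) (nat_lit 200) (Net.cons (nat_lit 8) (nat_lit 129) (Net.cons (nat_lit 4) (nat_lit 331015) (Net.cons (nat_lit 2) (nat_lit 131363) (Net.cons (nat_lit 1) (nat_lit 4198657) Net.nil))))))))), [⟨0, [[1], [3]], 5⟩, ⟨1, [[4, 1, 3], [3, 1, 4]], 5⟩, ⟨2, [[3, 2, 3, 3, 2], [2, 4, 2, 2, 3, 2]], 4⟩, ⟨5, [[2, 3, 2, 4, 2, 3, 3, 1, 1, 3], [3, 2, 4, 1, 1, 4, 4, 4, 4, 1, 1]], 4⟩, ⟨4, [[2, 3, 3, 3, 2, 3, 2, 3, 3, 1, 1, 4], [4, 1, 3, 1, 3, 3, 2, 3, 3, 3, 1, 1, 1], [4, 4, 4, 4, 4, 1, 4, 1, 1, 4, 1, 3, 1]], 2⟩, ⟨3, [[3, 3, 3, 2, 3, 1, 4, 4, 2, 3, 3, 1, 4]], 2⟩], 7, 11, 11⟩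
noncomputable def g7_11_23 : GD := ⟨(Net.cons (nat_lit 1) (nat_lit 65600) (Net.cons (nat_lit 2) (nat_lit 135168) (Net.cons (nat_lit 4) (nat_lit 722176) (Net.cons (nat_lit 8) (nat_lit 210) (Net.cons (nat_lit 16) (nat_lit 215) (Net.cons (nat_lit 8) (nat_lit 67) (Net.cons (nat_lit 4) (nat_lit 786434) (Net.cons (nat_lit 2) (nat_lit 1114416) (Net.cons (nat_lit 1) (nat_lit 1392900) Net.nil))))))))), (Net.cons (nat_lit 1) (nat_lit 1104) (Net.cons (nat_lit 2) (nat_lit 1052672) (Net.cons (nat_lit 4) (nat_lit 1024) (Net.cons (nat_lit 8) (nat_lit 96) (Net.cons (nat_lit 16) (nat_lit 108) (Net.cons (nat_lit 8) (nat_lit 200) (Net.cons (nat_lit 4) (nat_lit 519) (Net.cons (nat_lit 2) (nat_lit 131875) (Net.cons (nat_lit 1) (nat_lit 262224) Net.nil))))))))), [⟨0, [[1], [3]], 4⟩, ⟨1, [[2, 3, 3, 3], [2, 2, 4, 2]],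 4⟩, ⟨2, [[4, 4, 1, 1, 4, 4], [3, 3, 1, 4, 2, 3, 2]], 4⟩, ⟨3, [[1, 4, 2, 2, 4, 2, 4, 4, 1], [2, 3, 2, 2, 4, 2, 3, 2, 3, 3]], 5⟩, ⟨4, [[3, 3, 2, 3, 1, 3, 1, 3, 3, 2, 3], [1, 1, 4, 1, 4, 1, 1, 4, 1, 4, 1, 3, 1], [4, 1, 4, 4, 1, 1, 4, 2, 2, 3, 3, 1, 3]], 2⟩, ⟨5, [[4, 4, 1, 4, 4, 1, 4, 4, 1, 4, 1, 4, 1, 1, 1]], 2⟩], 7, 11, 23⟩
noncomputable def g7_23_23 : GD := ⟨(Net.cons (nat_lit 1) (nat_lit 21760) (Net.cons (nat_lit 2) (nat_lit 1118224) (Net.cons (nat_lit 4) (nat_lit 133120) (Net.cons (nat_lit 8) (nat_lit 48) (Net.cons (nat_lit 16) (nat_lit 62) (Net.cons (nat_lit 8) (nat_lit 176) (Net.cons (nat_lit 4) (nat_lit 395011) (Net.cons (nat_lit 2) (nat_lit 205585) (Net.cons (nat_lit 1) (nat_lit 66565) Net.nil))))))))), (Net.cons (nat_lit 1) (nat_lit 4457476) (Net.cons (nat_lit 2) (nat_lit 1118512) (Net.cons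 (nat_lit 4) (nat_lit 132608) (Net.cons (nat_lit 8) (nat_lit 224) (Net.cons (nat_lit 16) (nat_lit 239) (Net.cons (nat_lit 8) (nat_lit 215) (Net.cons (nat_lit 4) (nat_lit 394248) (Net.cons (nat_lit 2) (nat_lit 3351043) (Net.cons (nat_lit 1) (nat_lit 5506389) Net.nil))))))))), [⟨0, [[1], [3]], 4⟩, ⟨1, [[1, 4], [2, 4, 2, 3]], 4⟩, ⟨2, [[1, 3, 2, 3, 1, 3, 1], [4, 2, 2, 3, 3, 1, 3, 3]], 4⟩, ⟨3, [[1, 1, 3, 1, 3, 1, 1, 4, 1], [2, 3, 3, 2, 3, 1, 3, 2, 3, 2]], 3⟩, ⟨5, [[4, 4, 2, 4, 2, 4, 4, 4, 1, 4, 2, 4], [2, 4, 2, 2, 4, 2, 2, 4, 2, 4, 4, 1, 1], [1, 1, 3, 1, 1, 3, 1, 3, 2, 4, 2, 3, 3]], 1⟩, ⟨4, [[2, 2, 3, 3, 2, 4, 4, 2, 2, 4, 2, 3, 2, 3], [4, 2, 2, 4, 1, 4, 1, 1, 3, 2, 4, 4, 2, 2], [2, 4, 4, 2, 4, 4, 2, 3, 1, 4, 4, 4, 4, 2], [4, 4, 1, 4, 4, 1, 1, 3, 3, 2, 4, 4, 1, 4]], 1⟩], 7, 23, 23⟩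
noncomputable def g11_11_11 : GD := ⟨(Net.cons (nat_lit 1) (nat_lit 69712) (Net.cons (nat_lit 2) (nat_lit 3276800) (Net.cons (nat_lit 4) (nat_lit 592128) (Net.cons (nat_lit 16) (nat_lit 11) (Net.cons (nat_lit 8) (nat_lit 26) (Net.cons (nat_lit 4) (nat_lit 852744) (Net.cons (nat_lit 2) (nat_lit 2306067) (Net.cons (nat_lit 1) (nat_lit 1393984) Net.nil)))))))), (Net.cons (nat_lit 1) (nat_lit 267604) (Net.cons (nat_lit 2) (nat_lit 143872) (Net.cons (nat_lit 4) (nat_lit 131072) (Net.cons (nat_lit 8) (nat_lit 72) (Net.cons (nat_lit 16) (nat_lit 126) (Net.cons (nat_lit 8) (nat_lit 32) (Net.cons (nat_lit 4) (nat_lit 395526) (Net.cons (nat_lit 2) (nat_lit 197411) (Net.cons (nat_lit 1) (nat_lit 1070337) Net.nil))))))))), [⟨0, [[1], [3]], 5⟩, ⟨1, [[4, 2], [2, 2, 3, 1, 1]], 4⟩, ⟨2, [[1, 4, 2, 2, 4, 4], [3,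 2, 2, 4, 1, 1, 1]], 6⟩, ⟨3, [[1, 1, 3, 3, 1, 1, 1, 1, 1], [2, 2, 3, 3, 1, 4, 2, 2, 4, 1]], 4⟩, ⟨4, [[1, 1, 3, 3, 1, 1, 3, 1, 1, 4], [1, 3, 1, 3, 2, 3, 1, 4, 1, 4], [3, 1, 3, 1, 4, 1, 1, 3, 1, 1, 3]], 2⟩, ⟨5, [[1, 1, 3, 3, 1, 1, 3, 1, 1, 4]], 2⟩], 11, 11, 11⟩
noncomputable def g11_11_23 : GD := ⟨(Net.cons (nat_lit 1) (nat_lit 1070400) (Net.cons (nat_lit 2) (nat_lit 139552) (Net.cons (nat_lit 4) (nat_lit 526336) (Net.cons (nat_lit 8) (nat_lit 176) (Net.cons (nat_lit 16) (nat_lit 240) (Net.cons (nat_lit 8) (nat_lit 35) (Net.cons (nat_lit 4) (nat_lit 722691) (Net.cons (nat_lit 2) (nat_lit 135473) (Net.cons (nat_lit 1) (nat_lit 87060) Net.nil))))))))), (Net.cons (nat_lit 1) (nat_lit 5591360) (Net.cons (nat_lit 2) (nat_lit 1122304) (Net.cons (nat_lit 4) (nat_lit 919040) (Net.cons (nat_lit 8) (nat_lit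 130) (Net.cons (nat_lit 16) (nat_lit 226) (Net.cons (nat_lit 8) (nat_lit 143) (Net.cons (nat_lit 4) (nat_lit 656653) (Net.cons (nat_lit 2) (nat_lit 3346691) (Net.cons (nat_lit 1) (nat_lit 5509457) Net.nil))))))))), [⟨0, [[1], [3]], 5⟩, ⟨1, [[3, 1, 4, 4], [2, 4, 1, 1, 1]], 4⟩, ⟨2, [[1, 1, 4, 1, 4, 2], [3, 2, 4, 4, 2, 4]], 4⟩, ⟨3, [[2, 3, 1, 1, 3, 1, 3, 3], [2, 4, 1, 3, 1, 3, 3, 3, 1]], 4⟩, ⟨4, [[3, 1, 4, 2, 2, 2, 3, 2, 4, 1, 4], [2, 3, 2, 4, 1, 4, 2, 4, 4, 4, 1, 3], [2, 3, 1, 4, 1, 1, 4, 4, 2, 4, 4, 2]], 2⟩, ⟨5, [[1, 3, 3, 1, 4, 1, 1, 1, 3, 2, 2, 4, 2]], 2⟩], 11, 11, 23⟩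
noncomputable def g11_23_23 : GD := ⟨(Net.cons (nat_lit 1) (nat_lit 4216064) (Net.cons (nat_lit 2) (nat_lit 3285264) (Net.cons (nat_lit 4) (nat_lit 65792) (Net.cons (nat_lit 8) (nat_lit 80) (Net.cons (nat_lit 16) (nat_lit 114) (Net.cons (nat_lit 8) (nat_lit 155) (Net.cons (nat_lit 4) (nat_lit 593154) (Net.cons (nat_lit 2) (nat_lit 3284992) (Net.cons (nat_lit 1) (nat_lit 5571648) Net.nil))))))))), (Net.cons (nat_lit 1) (nat_lit 69636) (Net.cons (nat_lit 2) (nat_lit 2298384) (Net.cons (nat_lit 4) (nat_lit 66560) (Net.cons (nat_lit 8) (nat_lit 73) (Net.cons (nat_lit 16) (nat_lit 95) (Net.cons (nat_lit 8) (nat_lit 176) (Net.cons (nat_lit 4) (nat_lit 788489) (Net.cons (nat_lit 2) (nat_lit 2236705) (Net.cons (nat_lit 1) (nat_lit 345093) Net.nil))))))))), [⟨0, [[1], [3]], 4⟩, ⟨1, [[4, 4, 1, 4], [2,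 3, 2, 4]], 4⟩, ⟨2, [[3, 3, 2, 2, 2], [2, 2, 4, 2, 3, 1]], 5⟩, ⟨3, [[2, 4, 4, 2, 3, 1, 1, 4], [3, 2, 3, 2, 2, 4, 1, 1, 1]], 4⟩, ⟨4, [[3, 2, 4, 2, 2, 4, 4, 4, 1, 4, 2, 4], [4, 1, 3, 3, 2, 2, 3, 1, 1, 4, 4, 1, 1], [4, 4, 4, 2, 3, 1, 1, 3, 2, 2, 2, 4, 1]], 2⟩, ⟨5, [[2, 3, 3, 1, 3, 1, 3, 2, 2, 2, 4, 4, 4, 4, 4, 1]], 2⟩], 11, 23, 23⟩
noncomputable def g23_23_23 : GD := ⟨(Net.cons (nat_lit 1) (nat_lit 1048592) (Net.cons (nat_lit 2) (nat_lit 2294016) (Net.cons (nat_lit 4) (nat_lit 131072) (Net.cons (nat_lit 8) (nat_lit 132) (Net.cons (nat_lit 16) (nat_lit 237) (Net.cons (nat_lit 8) (nat_lit 101) (Net.cons (nat_lit 4) (nat_lit 198925) (Net.cons (nat_lit 2) (nat_lit 2167296) (Net.cons (nat_lit 1) (nat_lit 1131857) Net.nil))))))))), (Net.cons (nat_lit 1) (nat_lit 5505344) (Net.cons (nat_lit 2) (nat_lit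 3281680) (Net.cons (nat_lit 4) (nat_lit 984064) (Net.cons (nat_lit 16) (nat_lit 62) (Net.cons (nat_lit 8) (nat_lit 60) (Net.cons (nat_lit 4) (nat_lit 460554) (Net.cons (nat_lit 2) (nat_lit 1253633) (Net.cons (nat_lit 1) (nat_lit 5587013) Net.nil)))))))), [⟨0, [[1], [3]], 4⟩, ⟨2, [[4, 1, 3, 2], [4, 2, 2, 4]], 6⟩, ⟨1, [[4, 2, 3, 3, 1, 4], [2, 3, 2, 2, 4, 4, 4, 1]], 5⟩, ⟨3, [[4, 1, 1, 3, 1, 3, 3, 3, 1], [3, 3, 2, 3, 1, 1, 4, 4, 2]], 4⟩, ⟨4, [[1, 3, 2, 2, 2, 2, 2, 4, 1, 1, 1, 1, 1], [3, 1, 3, 2, 3, 1, 4, 1, 1, 1, 3, 1, 1], [1, 3, 1, 1, 1, 4, 1, 1, 4, 4, 4, 1, 1]], 2⟩, ⟨5, [[1, 3, 2, 2, 2, 2, 2, 4, 1, 1, 1, 1, 1]], 2⟩], 23, 23, 23⟩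
noncomputable def gs : List GD := [g2_5_11, g2_5_23, g2_7_7, g2_7_11, g2_7_23, g2_11_11, g2_11_23, g2_23_23, g3_3_11, g3_3_23, g3_5_5, g3_5_7, g3_5_11, g3_5_23, g3_7_7, g3_7_11, g3_7_23, g3_11_11, g3_11_23, g3_23_23, g5_5_5, g5_5_7, g5_5_11, g5_5_23, g5_7_7, g5_7_11, g5_7_23, g5_11_11, g5_11_23, g5_23_23, g7_7_7, g7_7_11, g7_7_23, g7_11_11, g7_11_23, g7_23_23, g11_11_11, g11_11_23, g11_23_23, g23_23_23]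

theorem gs_ok : lall GD.ok gs = true := by decide +kernel

theorem cyc23 {x : M23} {p : ℕ} (hp : p.Prime) (h : orderOf x = p) : ∃ f, cyc GolayPt x * p + f = 24 + p * f ∧
    (p = 2 → f = 8) ∧ (p = 3 → f = 6) := by
  have e : Nat.card (fixedBy GolayPt x) = (fx x).card := by
    rw [← Nat.card_eq_finsetCard]; exact Nat.card_congr (Equiv.subtypeEquivRight fun p => by simp; rfl)
  have h0 : (fx x).card ≠ 0 := fun t => fx_empty.1 t none x.2.2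
  have h1 : orderOf (⟨x, x.2.1⟩ : M24) = p := ord_mk _ ((orderOf_coe x).trans h)
  refine ⟨_, card_pts ▸ cyc_mul hp h, ?_, ?_⟩ <;> rintro rfl <;> rw [e]
  exacts [((cls2 h1).resolve_right fun t => h0 t.1).1, ((cls3 h1).resolve_right fun t => h0 t.1).1]

theorem ree23 {x y z : M23} (h : x * y * z = 1) (hc : closure {x, y} = ⊤) :
    cyc GolayPt x + cyc GolayPt y + cyc GolayPt z ≤ 28 := by
  have := ree h ![pt 23, pt 0] fun p => by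
    by_cases e : pt 23 = p
    · exact ⟨0, 1, one_mem _, e⟩
    · obtain ⟨g, hg, a, b⟩ := M24_two (show pt 23 ≠ pt 0 by decide) (p' := pt 23) e
      exact ⟨1, ⟨g, hg, a⟩, hc ▸ trivial, b⟩
  rwa [card_pts] at this

end CF.Leech.M
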