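import Cfsg.Agent.Leech.CoTr
import Cfsg.Agent.Leech.PsuD
import Cfsg.Agent.Comp.MatG
import Cfsg.Agent.Bt.MatF

/-! Three unitary groups as stabilisers in `Co0`. -/

set_option autoImplicit false
set_option maxRecDepth 1000000

namespace CF.Leech.Psu

open Cfsg CF.Comp MulAction Cfsg.Spor
open scoped Pointwise _root_.Classical

theorem alin_a : linAll (tabQ 3 2 0) 280 4 aV aA a0 aCs 2 = true := by decide +kernel
theorem alin : LinOK (tabQ 3 2 0) 280 4 2 aV aA a0 :=
  ⟨⟨aS, by decide +kernel⟩, by decide +kernel, by decide +kernel, rfl,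
    aCs, by decide +kernel, rfl, linAll_iff.1 alin_a⟩
theorem ach : ChainGe a0 a1 280 9 2 aW aC 3265920 :=
  ⟨rfl, by decide, by decide, slp_of_slpOK (by decide +kernel), by decide +kernel, by decide +kernel,
    by decide +kernel⟩
theorem asu : allFrom (suAt (tabQ 3 2 0) 4 3 aA aD) 0 2 = true := by decide +kernel
theorem blin_a : linAll (tabQ 2 1 1) 693 6 bV bA b0 bCs 2 = true := by decide +kernel
theorem blin : LinOK (tabQ 2 1 1) 693 6 2 bV bA b0 :=
  ⟨⟨bS, by decide +kernel⟩, by decide +kernel, by decide +kernel, rfl,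
    bCs, by decide +kernel, rfl, linAll_iff.1 blin_a⟩
theorem bch : ChainGe b0 b1 693 10 2 bW bC 9196830720 :=
  ⟨rfl, by decide, by decide, slp_of_slpOK (by decide +kernel), by decide +kernel, by decide +kernel,
    by decide +kernel⟩
theorem bsu : allFrom (suAt (tabQ 2 1 1) 6 2 bA bD) 0 2 = true := by decide +kernel
theorem clin_a : linAll (tabQ 5 4 4) 126 3 cV cA c0 cCs 2 = true := by decide +kernel
theorem clin : LinOK (tabQ 5 4 4) 126 3 2 cV cA c0 :=
  ⟨⟨cS, by decide +kernel⟩, by decide +kernel, by decide +kernel, rfl,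
    cCs, by decide +kernel, rfl, linAll_iff.1 clin_a⟩
theorem cch : ChainGe c0 c1 126 7 2 cW cC 126000 :=
  ⟨rfl, by decide, by decide, slp_of_slpOK (by decide +kernel), by decide +kernel, by decide +kernel,
    by decide +kernel⟩
theorem csu : allFrom (suAt (tabQ 5 4 4) 3 5 cA cD) 0 2 = true := by decide +kernel

theorem ok9 {K : Type*} [Field K] [Fintype K] (h : Fintype.card K = 9) : ∃ el : ℕ → K, (tabQ 3 2 0).Ok el := by
  obtain ⟨_, ω, h⟩ := Bt.exists_root (F := K) (p := 3) (e := 4) (r := 2) (s := 0) Nat.prime_three h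
    (by norm_num) (by norm_num) fun x h2 hx => ⟨x, by
      have := (hx.pow (by norm_num) (show 4 = 2 * 2 from rfl)).eq_neg_one_of_two_right
      push_cast at h2 ⊢
      linear_combination this - h2⟩
  exact ⟨_, tabQ_ok 3 2 0 (by decide) ((sq ω).trans h) (by decide)⟩

theorem ok25 {K : Type*} [Field K] [Fintype K] (h : Fintype.card K = 25) : ∃ el : ℕ → K, (tabQ 5 4 4).Ok el := by
  obtain ⟨_, ω, h⟩ := Bt.exists_root (F := K) (p := 5) (e := 3) (r := 4) (s := 4) Nat.prime_five h
    (by norm_num) (by norm_num) fun x h2 hx => ⟨x, by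
      have := hx.geom_sum_eq_zero (by norm_num)
      simp only [Finset.sum_range_succ, Finset.sum_range_zero] at this
      push_cast at h2 ⊢
      linear_combination this - (1 + x) * h2⟩
  exact ⟨_, tabQ_ok 5 4 4 (by decide) ((sq ω).trans h) (by decide)⟩

theorem card_psu {K : Type*} [Field K] [Fintype K] {q d s : ℕ} (hK : Fintype.card K = q ^ 2) (hd : 2 ≤ d)
    (h : (q + 1) * (s * Nat.gcd d (q + 1)) = q ^ (d * (d - 1) / 2) *
      ∏ i ∈ Finset.range d, (if Even i then q ^ (i + 1) + 1 else q ^ (i + 1) - 1)) : Nat.card (PSU d K q) = s :=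
  Nat.eq_of_mul_eq_mul_right (Nat.gcd_pos_of_pos_right d q.succ_pos)
    (Nat.eq_of_mul_eq_mul_left q.succ_pos ((card_PSU_mul hK hd).trans h.symm))

/-- the elements fix a vector whose class they fix -/
theorem coEl_fix_cls {Ys As : List (List ℕ)} (h : allCo Ys As = true) {a x : LL} {c : ℕ} (hx : (x : V) = vec c)
    (hc : allLt (llen Ys) (fun i => Nat.beq (xorSel (nth [] As i) (clsN c)) (clsN c)) = true)
    (ha : ∀ i, coEl Ys i • a = a) (hd : dt a x ≠ 0) (hn : nm x ≤ 48) (i : ℕ) : coEl Ys i • x = x := by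
  by_cases hi : i < Ys.length
  · refine smul_eq_of_pr (ha i) hd hn ?_
    rw [smul_pr, wd_zero, smul_zero, red_eq_clsN hx, (coEl_spec h hi).2.smul_wd,
      Leech.beq_iff.1 (allLt_iff.1 hc i (llen_eq Ys ▸ hi))]
  · rw [coEl_ge (not_lt.1 hi), one_smul]

/-! ### `U4(3)` -/

/-- the generators of the group of the McLaughlin graph -/
noncomputable abbrev f : ℕ → Co0 := slp (coEl Dat.bY) Dat.bW (llen Dat.bY)

/-- two generators of the point stabiliser -/
noncomputable abbrev f2 (i : ℕ) : Co0 := ([2, 3].map f).getD i 1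

theorem f2_mem (i : ℕ) : f2 i ∈ St3 leechV leechU leechX := by
  have h := fun w hw => bExact1.mem w (show w ∈ cgens Dat.bC.tail from hw)
  rcases i with _ | _ | i
  · simpa [f2] using (ev_single f 2).symm ▸ h [5] (by decide +kernel)
  · simpa [f2] using (ev_single f 3).symm ▸ h [7] (by decide +kernel)
  · exact one_mem _

theorem aLs : sorted aL 280 = true := by decide +kernel

theorem aReps : Reps ((prDom Dat.bT 275 0 0 bOK).inc aL 280 (by decide +kernel) aLs) a0 f2 :=
  (bExact.reps.sel [2, 3]).inc _ aLs (by decide +kernel)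

theorem equiv43 (K : Type*) [Field K] [Fintype K] (hK : Fintype.card K = 9) :
    Nonempty (St3 leechV leechU leechX ≃* PSU 4 K 3) :=
  let ⟨_, hT⟩ := ok9 hK
  have c : Nat.card (PSU 4 K 3) = 3265920 := card_psu hK (by decide) (by decide +kernel)
  have := Nat.finite_of_card_ne_zero (c ▸ by decide : Nat.card (PSU 4 K 3) ≠ 0)
  (ach.nonempty_equiv aReps (fun i hi => List.getD_eq_default _ _ hi) (alin.hasReps_PSU hT hK (by decide) asu) c
    f2_mem card_U43.le).2

/-! ### `U6(2)` -/

theorem bCo : allCo bY bM = true := by decide +kernel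

theorem bU (i : ℕ) : coEl bY i • leechU = leechU := coEl_fix_U bCo (by decide +kernel) i

theorem bLs : sorted bL 693 = true := by decide +kernel

theorem bReps : Reps ((prDom bT 891 0 0 (by decide +kernel)).inc bL 693 (by decide +kernel) bLs) b0 (coEl bY) :=
  (reps_plain (nets := bN) _ bCo (by decide +kernel) (by decide +kernel)).inc _ bLs (by decide +kernel)

theorem equiv62 (K : Type*) [Field K] [Fintype K] (hK : Fintype.card K = 4) :
    Nonempty (St2 leechU leechW ≃* PSU 6 K 2) :=
  let ⟨_, hT⟩ := exists_ok_four hK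
  have c : Nat.card (PSU 6 K 2) = 9196830720 := card_psu hK (by decide) (by decide +kernel)
  have := Nat.finite_of_card_ne_zero (c ▸ by decide : Nat.card (PSU 6 K 2) ≠ 0)
  (bch.nonempty_equiv bReps (fun _ => coEl_ge (Ys := bY)) (blin.hasReps_PSU hT hK (by decide) bsu) c (H := St2 leechU leechW)
    (fun i => ⟨bU i, coEl_fix_cls bCo W_vec (by decide +kernel) bU (by rw [dt_U_W]; decide) (by rw [nm_W]; decide) i⟩)
    card_U62.le).2

/-! ### `U3(5)` -/

/-- the base point of the 352 -/
def leechY : LL := vl 0x7be2f7c5ef8c6318bdef7bdef7bded (by decide +kernel)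

theorem Y_mem : leechY ∈ M2 leechV 16 leechU' 8 := by
  refine ⟨?_, ?_, ?_⟩ <;> decide +kernel

theorem card_U35 : Nat.card (St3 leechV leechU' leechY) = 126000 := by
  have h1 := card_eq_orb_mul (St2 leechV leechU') leechY
  rw [card_HS, orb_352'.2 _ Y_mem, orb_352'.1] at h1
  change _ = 352 * Nat.card (St3 leechV leechU' leechY) at h1
  omega

theorem cCo : allCo cY cM = true := by decide +kernel

theorem cV' (i : ℕ) : coEl cY i • leechV = leechV := coEl_fix_V cCo (by decide +kernel) i

theorem cLs : sorted cL 126 = true := by decide +kernel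

theorem cReps : Reps ((prDom cT 175 0 0 (by decide +kernel)).inc cL 126 (by decide +kernel) cLs) c0 (coEl cY) :=
  (reps_plain (nets := cN) _ cCo (by decide +kernel) (by decide +kernel)).inc _ cLs (by decide +kernel)

theorem equiv35 (K : Type*) [Field K] [Fintype K] (hK : Fintype.card K = 25) :
    Nonempty (St3 leechV leechU' leechY ≃* PSU 3 K 5) :=
  let ⟨_, hT⟩ := ok25 hK
  have c : Nat.card (PSU 3 K 5) = 126000 := card_psu hK (by decide) (by decide +kernel)
  have := Nat.finite_of_card_ne_zero (c ▸ by decide : Nat.card (PSU 3 K 5) ≠ 0)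
  (cch.nonempty_equiv cReps (fun _ => coEl_ge (Ys := cY)) (clin.hasReps_PSU hT hK (by decide) csu) c
    (H := St3 leechV leechU' leechY)
    (fun i => ⟨⟨cV' i, coEl_fix_U' cCo (by decide +kernel) i⟩, coEl_fix_cls cCo rfl (by decide +kernel) cV'
      (by rw [Y_mem.2.1]; decide) (by rw [Y_mem.1]; decide) i⟩) card_U35.le).2

end CF.Leech.Psu
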